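import Cfsg.Agent.Lib.Classical.SubfieldMax.Main
import Cfsg.Prelude.Def_GeometricClasses

/-!
# Membership in a subfield group
-/

set_option autoImplicit false

open Matrix

namespace CfsgLib.Classical.SubfieldMax

variable {ι : Type} [Fintype ι] [DecidableEq ι] {F : Type*} [Field F]

theorem mem_subfieldSubgroup_iff (F₀ : Subfield F) (P g : GL ι F) : g ∈ Cfsg.Geo.subfieldSubgroup F₀ P ↔
    ∃ c : F, c ≠ 0 ∧ ∀ a b, c * ((P⁻¹ * g * P : GL ι F) : Matrix ι ι F) a b ∈ F₀ := by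
  classical
  haveI hnorm : (Cfsg.Geo.scalars ι F).Normal := ⟨fun s hs g => by
    obtain ⟨c, hc⟩ := (Cfsg.Geo.mem_scalars_iff s).1 hs
    refine (Cfsg.Geo.mem_scalars_iff _).2 ⟨c, ?_⟩
    rw [Units.val_mul, Units.val_mul, hc, Matrix.mul_smul, Matrix.mul_one, Matrix.smul_mul, ← Units.val_mul,
      mul_inv_cancel, Units.val_one]⟩
  rw [Cfsg.Geo.subfieldSubgroup, Subgroup.mem_map]
  constructor
  · rintro ⟨y, hy, rfl⟩
    obtain ⟨a, ⟨A, rfl⟩, s, hs, rfl⟩ := Subgroup.mem_sup_of_normal_right.1 hy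
    obtain ⟨c, hc⟩ := (Cfsg.Geo.mem_scalars_iff s).1 hs
    refine ⟨(c⁻¹ : Fˣ), Units.ne_zero _, fun i j => ?_⟩
    rw [show P⁻¹ * (MulAut.conj P).toMonoidHom (Matrix.GeneralLinearGroup.map F₀.subtype A * s) * P =
      Matrix.GeneralLinearGroup.map F₀.subtype A * s by
        rw [MulEquiv.coe_toMonoidHom, MulAut.conj_apply]; group]
    rw [Units.val_mul, hc, Matrix.mul_smul, Matrix.mul_one, Matrix.smul_apply, smul_eq_mul, ← mul_assoc,
      ← Units.val_mul, inv_mul_cancel, Units.val_one, one_mul, Matrix.GeneralLinearGroup.map_apply]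
    exact SetLike.coe_mem _
  · rintro ⟨c, hc, hA⟩
    set h := P⁻¹ * g * P with hh
    let A : Matrix ι ι F₀ := fun i j => ⟨c * (h : Matrix ι ι F) i j, hA i j⟩
    have hmap : A.map F₀.subtype = c • (h : Matrix ι ι F) := rfl
    have hd : A.det ≠ 0 := fun e => by
      have := congrArg F₀.subtype e
      rw [map_zero, RingHom.map_det, RingHom.mapMatrix_apply, hmap, Matrix.det_smul] at this
      exact mul_ne_zero (pow_ne_zero _ hc) h.det_ne_zero this
    refine ⟨h, Subgroup.mem_sup_of_normal_right.2 ⟨_, ⟨Matrix.GeneralLinearGroup.mkOfDetNeZero A hd, rfl⟩,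
      (Matrix.GeneralLinearGroup.map F₀.subtype (Matrix.GeneralLinearGroup.mkOfDetNeZero A hd))⁻¹ * h, ?_,
      mul_inv_cancel_left _ _⟩, by rw [MulEquiv.coe_toMonoidHom, MulAut.conj_apply, hh]; group⟩
    refine (Cfsg.Geo.mem_scalars_iff _).2 ⟨(Units.mk0 c hc)⁻¹, ?_⟩
    rw [Units.val_mul, show ((h : GL ι F) : Matrix ι ι F) =
      ((Units.mk0 c hc)⁻¹ : Fˣ).val • ((Matrix.GeneralLinearGroup.map F₀.subtype
        (Matrix.GeneralLinearGroup.mkOfDetNeZero A hd) : GL ι F) : Matrix ι ι F) from by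
      ext i j
      rw [Matrix.smul_apply, Matrix.GeneralLinearGroup.map_apply, smul_eq_mul]
      show _ = _ * (c * (h : Matrix ι ι F) i j)
      rw [Units.val_inv_eq_inv_val, Units.val_mk0, inv_mul_cancel_left₀ hc], Matrix.mul_smul, ← Units.val_mul,
      inv_mul_cancel, Units.val_one]

end CfsgLib.Classical.SubfieldMax
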