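import Cfsg.Agent.Lib.Classical.Dickson.MaxBasic
import Cfsg.Agent.Lib.Classical.Dickson.MaxTools
import Cfsg.Agent.Lib.Classical.Dickson.Main
import Cfsg.Agent.Lib.Classical.Dickson.MaxClass

/-!
# A large group of upper transvections forces a large Borel part
-/

set_option autoImplicit false
set_option linter.unusedSectionVars false
set_option linter.style.haveILetI false

namespace CfsgLib.Classical.SubfieldMax

open Matrix OnePoint MulAction CfsgLib.Classical.Dickson
open scoped MatrixGroups Pointwise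

variable {F : Type*} [Field F] [Fintype F] [DecidableEq F]

/-- An upper unitriangular element. -/
def upper (b : F) : SL(2, F) := ⟨!![1, b; 0, 1], by simp⟩

theorem toPGL_upper (b : F) : SpecialLinearGroup.toPGL (upper b) = aff (1 : Fˣ) b := by
  show ProjGenLinGroup.mk _ = ProjGenLinGroup.mk _
  apply congrArg ProjGenLinGroup.mk
  apply Units.ext; ext i j; fin_cases i <;> fin_cases j <;> simp [affGL, upper] <;> rfl

theorem smul_infty_iff (k : SL(2, F)) :
    SpecialLinearGroup.toPGL k • (∞ : OnePoint F) = ∞ ↔ (k : Matrix (Fin 2) (Fin 2) F) 1 0 = 0 := by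
  rw [show SpecialLinearGroup.toPGL k = ProjGenLinGroup.mk (SpecialLinearGroup.toGL k) from rfl, mk_smul,
    smul_infty_eq_self_iff]
  rfl

theorem aff_sq_mem (A : Subfield F) (a : Aˣ) :
    aff (Units.map (A.subtype : A →* F) a ^ 2) (0 : F) ∈ ratPSL A := by
  refine ⟨⟨!![(a : A), 0; 0, ((a⁻¹ : Aˣ) : A)], by simp [det_fin_two]⟩, ?_⟩
  show ProjGenLinGroup.map A.subtype (ProjGenLinGroup.mk _) = _
  rw [ProjGenLinGroup.map_mk, aff, ProjGenLinGroup.mk_eq_mk_iff]
  refine ⟨Units.map (A.subtype : A →* F) a, ?_⟩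
  apply Units.ext; ext i j
  fin_cases i <;> fin_cases j <;>
    simp [affGL, GeneralLinearGroup.coe_scalar, SpecialLinearGroup.toGL, Matrix.mul_apply, Fin.sum_univ_two, pow_two]

/-- A prime power above `8` divides none of `12`, `24`, `60`. -/
theorem small_dvd {p j m : ℕ} {P : Prop} (hp : p.Prime) (h8 : 8 < p ^ j) (h : p ^ j ∣ m)
    (hm : m = 12 ∨ m = 24 ∨ m = 60) : P := by
  exfalso
  have hle : p ^ j ≤ m := Nat.le_of_dvd (by omega) h
  have hj0 : j ≠ 0 := by rintro rfl; simp at h8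
  have hp60 : p ≤ 60 := le_trans (Nat.le_self_pow hj0 p) (by omega)
  have hj6 : j ≤ 5 := by
    by_contra hc
    have h1 : 2 ^ 6 ≤ p ^ j :=
      (Nat.pow_le_pow_left hp.two_le 6).trans (Nat.pow_le_pow_right hp.pos (by omega))
    have : m ≤ 60 := by omega
    omega
  interval_cases p <;> first | (norm_num at hp; done) | (interval_cases j <;> rcases hm with rfl | rfl | rfl <;> omega)

/-- An elementary abelian `2`-subgroup of `S₄` has order below `8`. -/
theorem no_eight_in_perm_four {H : Type*} [CommGroup H] [Finite H] (hH : Nat.card H = 8) (he : ∀ a : H, a ^ 2 = 1)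
    (f : H →* Equiv.Perm (Fin 4)) (hf : Function.Injective f) {P : Prop} : P := by
  exfalso
  have key : ∀ a b c : Equiv.Perm (Fin 4), a * a = 1 → b * b = 1 → c * c = 1 → a * b = b * a → a * c = c * a →
      b * c = c * b → a = 1 ∨ b = 1 ∨ a = b ∨ c = 1 ∨ c = a ∨ c = b ∨ c = a * b := by decide +kernel
  haveI := Fintype.ofFinite H
  classical
  obtain ⟨a, ha⟩ : ∃ a : H, a ≠ 1 := by
    haveI : Nontrivial H := Finite.one_lt_card_iff_nontrivial.1 (by omega)
    exact exists_ne 1
  obtain ⟨b, hb⟩ : ∃ b : H, b ∉ ({1, a} : Finset H) := by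
    by_contra hc
    push Not at hc
    have := (Finset.card_le_card (fun x (_ : x ∈ (Finset.univ : Finset H)) => hc x)).trans Finset.card_le_two
    rw [Finset.card_univ, ← Nat.card_eq_fintype_card] at this
    omega
  obtain ⟨c, hc⟩ : ∃ c : H, c ∉ ({1, a, b, a * b} : Finset H) := by
    by_contra hc
    push Not at hc
    have := (Finset.card_le_card (fun x (_ : x ∈ (Finset.univ : Finset H)) => hc x)).trans Finset.card_le_four
    rw [Finset.card_univ, ← Nat.card_eq_fintype_card] at this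
    omega
  have hsq : ∀ x : H, f x * f x = 1 := fun x => by rw [← map_mul, ← pow_two, he, map_one]
  have hcm : ∀ x y : H, f x * f y = f y * f x := fun x y => by rw [← map_mul, ← map_mul, mul_comm]
  simp only [Finset.mem_insert, Finset.mem_singleton, not_or] at hb hc
  rcases key (f a) (f b) (f c) (hsq a) (hsq b) (hsq c) (hcm a b) (hcm a c) (hcm b c) with h | h | h | h
  · exact ha (hf (h.trans (map_one f).symm))
  · exact hb.1 (hf (h.trans (map_one f).symm))
  · exact hb.2 (hf h).symm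
  · rcases h with h | h | h | h
    · exact hc.1 (hf (h.trans (map_one f).symm))
    · exact hc.2.1 (hf h)
    · exact hc.2.2.1 (hf h)
    · exact hc.2.2.2 (hf (h.trans (map_mul f a b).symm))

/-- If a subgroup of `SL₂` contains a group of upper transvections of order at least `8` and at least `|B|^2`,
and some element off the Borel subgroup, then some Borel element has squared eigenvalue outside `B`. -/
theorem exists_borel_outside' (K : Subgroup SL(2, F)) (Λ : AddSubgroup F) (hΛ : ∀ b ∈ Λ, upper b ∈ K)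
    {w : SL(2, F)} (hw : w ∈ K) (hw0 : (w : Matrix (Fin 2) (Fin 2) F) 1 0 ≠ 0) (B : Subfield F)
    (h8 : 8 ≤ Nat.card Λ ∨ Even (Fintype.card F) ∧ 4 ≤ Nat.card Λ) (hB : Nat.card B ^ 2 ≤ Nat.card Λ) :
    ∃ k ∈ K, (k : Matrix (Fin 2) (Fin 2) F) 1 0 = 0 ∧ (k : Matrix (Fin 2) (Fin 2) F) 0 0 ^ 2 ∉ B := by
  classical
  have h4Λ : 4 ≤ Nat.card Λ := by rcases h8 with h | h <;> omega
  obtain ⟨p, hpF⟩ := CharP.exists F
  haveI : Fact p.Prime := ⟨CharP.char_is_prime F p⟩
  have hp := Fact.out (p := p.Prime)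
  set G := K.map (SpecialLinearGroup.toPGL (n := Fin 2) (R := F)) with hG
  have hmem : ∀ b ∈ Λ, aff (1 : Fˣ) b ∈ G := fun b hb => ⟨_, hΛ b hb, toPGL_upper b⟩
  have hwG : SpecialLinearGroup.toPGL w ∈ G := ⟨w, hw, rfl⟩
  have hwm : SpecialLinearGroup.toPGL w • (∞ : OnePoint F) ≠ ∞ := fun e => hw0 ((smul_infty_iff w).1 e)
  obtain ⟨⟨b₀, hb₀⟩, hb₀0⟩ : ∃ b : Λ, b ≠ 0 := by
    haveI : Nontrivial Λ := Finite.one_lt_card_iff_nontrivial.1 (by omega)
    exact exists_ne 0
  replace hb₀0 : b₀ ≠ 0 := fun e => hb₀0 (Subtype.ext e)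
  have hu1 : aff (1 : Fˣ) b₀ ≠ 1 := fun e => hb₀0 (aff_eq_one_iff.1 e).2
  have hup : ∀ b : F, aff (1 : Fˣ) b ^ p = 1 := fun b => (aff_pow_char_eq_one_iff p 1 b).2 rfl
  -- the translations inside `G`
  let ι : Multiplicative Λ →* G :=
    { toFun := fun b => ⟨aff (1 : Fˣ) (Multiplicative.toAdd b).1, hmem _ (Multiplicative.toAdd b).2⟩
      map_one' := Subtype.ext aff_one
      map_mul' := fun a b => Subtype.ext (by
        show aff _ _ = aff _ _ * aff _ _
        rw [aff_mul]; simp [add_comm]) }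
  have hι : Function.Injective ι := fun a b h =>
    Multiplicative.toAdd.injective (Subtype.ext (aff_injective (Subtype.ext_iff.1 h)).2)
  have hdvd : Nat.card Λ ∣ Nat.card G := by
    have := Subgroup.card_dvd_of_injective ι hι
    rwa [Nat.card_congr Multiplicative.toAdd] at this
  obtain ⟨n, hn⟩ := FiniteField.card F p
  obtain ⟨j, -, hj⟩ : ∃ j ≤ (n : ℕ), Nat.card Λ = p ^ j := (Nat.dvd_prime_pow hp).1 (by
    rw [← hn.2, ← Nat.card_eq_fintype_card]; exact Λ.card_addSubgroup_dvd_card)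
  have hj0 : j ≠ 0 := fun e => by rw [e, pow_zero] at hj; omega
  have hpG : p ∣ Nat.card G := (dvd_pow_self p hj0).trans (hj ▸ hdvd)
  have hrat : ∀ (A : Subfield F) (h : ProjGenLinGroup (Fin 2) F),
      (G.map (MulAut.conj h).toMonoidHom = ratPGL A ∨ G.map (MulAut.conj h).toMonoidHom = ratPSL A) →
      ∃ k ∈ K, (k : Matrix (Fin 2) (Fin 2) F) 1 0 = 0 ∧ (k : Matrix (Fin 2) (Fin 2) F) 0 0 ^ 2 ∉ B := by
    intro A h hA
    obtain ⟨R, hR, hle, hge⟩ : ∃ R, G.map (MulAut.conj h).toMonoidHom = R ∧ R ≤ ratPGL A ∧ ratPSL A ≤ R := by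
      rcases hA with hA | hA
      · exact ⟨_, rfl, hA ▸ le_rfl, hA ▸ ratPSL_le A⟩
      · exact ⟨_, rfl, hA ▸ ratPSL_le A, hA ▸ le_rfl⟩
    clear hA
    -- the size of the subfield
    have hpA : p ∣ Nat.card A := by
      have h2 := two_le_card A
      obtain ⟨a, -, ha⟩ : ∃ a ≤ (n : ℕ), Nat.card A = p ^ a := (Nat.dvd_prime_pow hp).1 (by
        rw [← hn.2, ← Nat.card_eq_fintype_card]; exact A.toAddSubgroup.card_addSubgroup_dvd_card)
      exact ha ▸ dvd_pow_self p (fun e => by rw [e, pow_zero] at ha; omega)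
    have hΛA : Nat.card Λ ≤ Nat.card A := by
      have h2 := two_le_card A
      have hd : Nat.card Λ ∣ (Nat.card A + 1) * Nat.card A * (Nat.card A - 1) := by
        rw [← card_ratPGL]
        refine hdvd.trans ?_
        rw [← Subgroup.card_map_of_injective (f := (MulAut.conj h).toMonoidHom) (MulAut.conj h).injective, hR]
        exact Subgroup.card_dvd_of_le hle
      rw [hj] at hd ⊢
      have c1 : (p ^ j).Coprime (Nat.card A + 1) := by
        refine ((hp.coprime_iff_not_dvd).2 fun e => ?_).pow_left j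
        exact hp.one_lt.ne' (Nat.dvd_one.1 ((Nat.dvd_add_right hpA).1 e))
      have c2 : (p ^ j).Coprime (Nat.card A - 1) := by
        refine ((hp.coprime_iff_not_dvd).2 fun e => ?_).pow_left j
        have := Nat.dvd_sub hpA e
        rw [show Nat.card A - (Nat.card A - 1) = 1 by omega] at this
        exact hp.one_lt.ne' (Nat.dvd_one.1 this)
      exact Nat.le_of_dvd (by omega) (c1.dvd_of_dvd_mul_left (c2.dvd_of_dvd_mul_right hd))
    -- an element of `R` carrying `∞` to the conjugate of `∞`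
    have hone : aff (1 : Fˣ) (1 : F) ∈ R := hge ⟨⟨!![1, 1; 0, 1], by simp⟩, by
      show ProjGenLinGroup.map A.subtype (ProjGenLinGroup.mk _) = _
      rw [ProjGenLinGroup.map_mk, aff]
      apply congrArg ProjGenLinGroup.mk
      apply Units.ext; ext i j; fin_cases i <;> fin_cases j <;> simp [affGL] <;> rfl⟩
    have hcu : MulAut.conj h (aff (1 : Fˣ) b₀) ∈ R := hR ▸ Subgroup.mem_map_of_mem _ (hmem b₀ hb₀)
    have hfix : ∀ u : ProjGenLinGroup (Fin 2) F, ∀ hu : u ∈ R, u ≠ 1 → u ^ p = 1 → ∀ z : OnePoint F, u • z = z →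
        ∃ S : Sylow p R, ∀ s ∈ S, (s : ProjGenLinGroup (Fin 2) F) • z = z := by
      intro u hu hu1' hup' z hz
      obtain ⟨S, hS⟩ := IsPGroup.exists_le_sylow (G := R) (p := p) (P := Subgroup.zpowers (⟨u, hu⟩ : R))
        (IsPGroup.of_card (n := 1) (by
          rw [pow_one, Nat.card_zpowers, ← Subgroup.orderOf_coe]
          exact orderOf_eq_prime hup' hu1'))
      have hnd : ¬ p ∣ Nat.card (OnePoint F) := by
        rw [natCard_points, Nat.card_eq_fintype_card, hn.2]
        intro e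
        exact hp.one_lt.ne' (Nat.dvd_one.1 ((Nat.dvd_add_right (dvd_pow_self p n.ne_zero)).1 e))
      obtain ⟨y, hy⟩ := S.isPGroup'.nonempty_fixed_point_of_prime_not_dvd_card (OnePoint F) hnd
      have hyz : y = z := fix_of_unip p hu1' hup' hz (hy ⟨⟨u, hu⟩, hS (Subgroup.mem_zpowers _)⟩)
      exact ⟨S, fun s hs => hyz ▸ hy ⟨s, hs⟩⟩
    obtain ⟨S, hS⟩ := hfix _ hone (by rw [Ne, aff_eq_one_iff]; simp) (hup 1) ∞ (aff_smul_infty _ _)
    obtain ⟨P, hP⟩ := hfix _ hcu (by rwa [Ne, map_eq_one_iff _ (MulAut.conj h).injective])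
      (by rw [← map_pow, hup, map_one]) (h • (∞ : OnePoint F))
      (by rw [MulAut.conj_apply, mul_smul, mul_smul, inv_smul_smul, aff_smul_infty])
    obtain ⟨g, hg⟩ := MulAction.exists_smul_eq R S P
    have hginf : (g : ProjGenLinGroup (Fin 2) F) • (∞ : OnePoint F) = h • (∞ : OnePoint F) := by
      haveI : Nontrivial S := by
        refine Finite.one_lt_card_iff_nontrivial.1 (lt_of_lt_of_le hp.one_lt ?_)
        refine Nat.le_of_dvd Nat.card_pos (S.dvd_card_of_dvd_card ?_)
        have := Subgroup.orderOf_dvd_natCard R hone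
        rwa [orderOf_eq_prime (hup 1) (by rw [Ne, aff_eq_one_iff]; simp)] at this
      obtain ⟨⟨s, hs⟩, hs1⟩ := exists_ne (1 : S)
      have hs1' : s ≠ 1 := fun e => hs1 (Subtype.ext e)
      have hsP : g * s * g⁻¹ ∈ P := by
        rw [← hg]
        show g * s * g⁻¹ ∈ (MulAut.conj g) • (S : Subgroup R)
        exact Subgroup.smul_mem_pointwise_smul s (MulAut.conj g) _ hs
      obtain ⟨m, hm⟩ := IsPGroup.iff_orderOf.1 P.isPGroup' ⟨_, hsP⟩
      have hm0 : m ≠ 0 := fun e => by
        rw [e, pow_zero, orderOf_eq_one_iff, Subtype.ext_iff] at hm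
        have hm' : g * s * g⁻¹ = 1 := hm
        exact hs1' (calc s = g⁻¹ * (g * s * g⁻¹) * g := by group
          _ = 1 := by rw [hm']; group)
      have hv : orderOf ((g * s * g⁻¹ : R) ^ p ^ (m - 1)) = p := by
        rw [← Subgroup.orderOf_coe] at hm
        rw [orderOf_pow' _ (pow_ne_zero _ hp.ne_zero), hm, Nat.gcd_eq_right (pow_dvd_pow p (by omega)),
          Nat.pow_div (by omega) hp.pos, show m - (m - 1) = 1 by omega, pow_one]
      set v := (g * s * g⁻¹ : R) ^ p ^ (m - 1) with hvd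
      have hvP : v ∈ P := pow_mem hsP _
      have hvpow : v = g * s ^ p ^ (m - 1) * g⁻¹ := by rw [hvd]; exact conj_pow
      have h1 : (v : ProjGenLinGroup (Fin 2) F) • ((g : ProjGenLinGroup (Fin 2) F) • (∞ : OnePoint F)) =
          (g : ProjGenLinGroup (Fin 2) F) • (∞ : OnePoint F) := by
        rw [hvpow, Subgroup.coe_mul, Subgroup.coe_mul, Subgroup.coe_inv, mul_smul, mul_smul, inv_smul_smul,
          hS _ (pow_mem hs _)]
      refine fix_of_unip p ?_ ?_ (hP v hvP) h1
      · intro e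
        rw [← Subgroup.orderOf_coe, e, orderOf_one] at hv
        exact hp.one_lt.ne hv
      · rw [← orderOf_dvd_iff_pow_eq_one, Subgroup.orderOf_coe, hv]
    -- Borel elements
    by_contra hcon
    push Not at hcon
    have key : ∀ a : Aˣ, ((a : A) : F) ^ 2 ∈ B := by
      intro a
      set α : Fˣ := Units.map (A.subtype : A →* F) a with hα
      have hαv : (α : F) = ((a : A) : F) := rfl
      have hd : MulAut.conj (g : ProjGenLinGroup (Fin 2) F) (aff (α ^ 2) 0) ∈ R := by
        rw [MulAut.conj_apply]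
        exact mul_mem (mul_mem g.2 (hge (aff_sq_mem A a))) (inv_mem g.2)
      obtain ⟨t, ht, hte⟩ := (SetLike.ext_iff.1 hR _).2 hd
      obtain ⟨k, hk, rfl⟩ := ht
      change MulAut.conj h (SpecialLinearGroup.toPGL k) = _ at hte
      have htinf : SpecialLinearGroup.toPGL k • (∞ : OnePoint F) = ∞ := by
        apply smul_left_cancel h
        calc h • (SpecialLinearGroup.toPGL k • (∞ : OnePoint F))
            = MulAut.conj h (SpecialLinearGroup.toPGL k) • (h • (∞ : OnePoint F)) := by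
              rw [MulAut.conj_apply, mul_smul, mul_smul, inv_smul_smul]
          _ = h • (∞ : OnePoint F) := by
              rw [hte, ← hginf, MulAut.conj_apply, mul_smul, mul_smul, inv_smul_smul, aff_smul_infty]
      rw [smul_infty_iff] at htinf
      have hγ := hcon k hk htinf
      have htr := congrArg tinv hte
      rw [tinv_conj, tinv_conj] at htr
      rw [show SpecialLinearGroup.toPGL k = ProjGenLinGroup.mk (SpecialLinearGroup.toGL k) from rfl, aff,
        tinv_mk, tinv_mk] at htr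
      have hdet : (k : Matrix (Fin 2) (Fin 2) F) 0 0 * (k : Matrix (Fin 2) (Fin 2) F) 1 1 = 1 := by
        have := k.det_coe
        rwa [det_fin_two, htinf, mul_zero, sub_zero] at this
      have hα0 : (α : F) ≠ 0 := α.ne_zero
      simp [SpecialLinearGroup.toGL, affGL, trace_fin_two, det_fin_two, htinf, hdet] at htr
      set x := (k : Matrix (Fin 2) (Fin 2) F) 0 0
      set y := (k : Matrix (Fin 2) (Fin 2) F) 1 1
      rw [eq_div_iff (pow_ne_zero 2 hα0)] at htr
      have hz : (x ^ 2 - (α : F) ^ 2) * (y ^ 2 - (α : F) ^ 2) = 0 := by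
        linear_combination (x * y + 1 + 2 * (α : F) ^ 2) * hdet - htr
      show (α : F) ^ 2 ∈ B
      rcases mul_eq_zero.1 hz with e | e
      · rwa [← sub_eq_zero.1 e]
      · rw [← sub_eq_zero.1 e, show y = x⁻¹ from eq_inv_of_mul_eq_one_right hdet, inv_pow]
        exact inv_mem hγ
    obtain ⟨a, ha⟩ := IsCyclic.exists_generator (α := Aˣ)
    have hord : orderOf a = Nat.card A - 1 := by rw [orderOf_eq_card_of_forall_mem_zpowers ha, Nat.card_units]
    have hb : (a ^ (2 * (Nat.card B - 1)) : Aˣ) = 1 := by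
      apply Units.ext; apply Subtype.ext
      haveI := Fintype.ofFinite B
      have h0 : (⟨((a : A) : F) ^ 2, key a⟩ : B) ≠ 0 := fun e =>
        pow_ne_zero 2 (Subtype.coe_injective.ne a.ne_zero) (congrArg Subtype.val e)
      have := FiniteField.pow_card_sub_one_eq_one _ h0
      rw [Nat.card_eq_fintype_card, pow_mul]
      simpa [pow_mul] using congrArg Subtype.val this
    have hle2 := Nat.le_of_dvd (by have := two_le_card B; omega) (hord ▸ orderOf_dvd_of_pow_eq_one hb)
    have h2B := two_le_card B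
    rw [pow_two] at hB
    have hlin : Nat.card B * Nat.card B ≥ 2 * Nat.card B := Nat.mul_le_mul_right _ h2B
    obtain hB3 | hB3 : Nat.card B = 2 ∨ 3 ≤ Nat.card B := by omega
    · omega
    · have : Nat.card B * Nat.card B ≥ 3 * Nat.card B := Nat.mul_le_mul_right _ hB3
      omega
  have hfixed : ∀ x : OnePoint F, (∀ g ∈ G, g • x = x) → False := by
    intro x hx
    have := fix_of_unip p hu1 (hup b₀) (aff_smul_infty 1 b₀) (hx _ (hmem b₀ hb₀))
    rw [this] at hx
    exact hwm (hx _ hwG)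
  have hp2 : ¬ 8 ≤ Nat.card Λ → p = 2 := fun hlt => by
    obtain ⟨he, -⟩ := h8.resolve_left hlt
    rw [hn.2] at he
    exact ((Nat.prime_dvd_prime_iff_eq Nat.prime_two hp).1 (Nat.prime_two.dvd_of_dvd_pow he.two_dvd)).symm
  rcases Dickson.kind p G with ⟨x, hx⟩ | ⟨c, hc, hpc⟩ | ⟨c, -, hpc, h2c, ⟨f⟩⟩ | ⟨⟨f⟩⟩ | ⟨⟨f⟩⟩ | ⟨⟨f⟩⟩ |
    ⟨A, h, hA⟩ | ⟨A, -, h, hA⟩
  · exact (hfixed x hx).elim
  · exact absurd (by rwa [hc, Nat.card_zpowers] at hpG) hpc
  · rw [Nat.card_congr f.toEquiv, DihedralGroup.nat_card, hj] at hdvd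
    have hcop : (p ^ j).Coprime (orderOf c) := ((hp.coprime_iff_not_dvd).2 hpc).pow_left j
    have := Nat.le_of_dvd (by norm_num) (hcop.dvd_of_dvd_mul_right hdvd)
    omega
  · by_cases hge8 : 8 ≤ Nat.card Λ
    swap
    · obtain ⟨x, hx⟩ := fixed_of_four p (hp2 hge8) ((alternatingGroup (Fin 4)).subtype.comp f.toMonoidHom)
        (Subtype.val_injective.comp f.injective) fun x hx => ⟨f.symm ⟨x, hx⟩, by simp⟩
      exact (hfixed x hx).elim
    rcases Nat.lt_or_ge 8 (Nat.card Λ) with h9 | h9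
    · rw [Nat.card_congr f.toEquiv, nat_card_alternatingGroup, Nat.card_fin] at hdvd
      exact small_dvd hp (hj ▸ h9) (hj ▸ hdvd) (by simp [Nat.factorial])
    · have h8' : Nat.card Λ = 8 := by omega
      have hp2 : p = 2 := by
        have : p ∣ 2 ^ 3 := by rw [show 2 ^ 3 = Nat.card Λ by rw [h8']; norm_num, hj]; exact dvd_pow_self p hj0
        exact (Nat.prime_dvd_prime_iff_eq hp Nat.prime_two).1 (hp.dvd_of_dvd_pow this)
      refine no_eight_in_perm_four (H := Multiplicative Λ) (by rw [Nat.card_congr Multiplicative.toAdd, h8']) (fun a => hι (by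
        rw [map_pow, map_one]; apply Subtype.ext; rw [SubmonoidClass.coe_pow]; have := hup (Multiplicative.toAdd a).1; simp only [hp2] at this; exact this))
        ((alternatingGroup (Fin 4)).subtype.comp (f.toMonoidHom.comp ι))
        (Subtype.val_injective.comp (f.injective.comp hι))
  · by_cases hge8 : 8 ≤ Nat.card Λ
    swap
    · obtain ⟨x, hx⟩ := fixed_of_four p (hp2 hge8) f.toMonoidHom f.injective
        fun x _ => ⟨f.symm x, f.apply_symm_apply x⟩
      exact (hfixed x hx).elim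
    rcases Nat.lt_or_ge 8 (Nat.card Λ) with h9 | h9
    · rw [Nat.card_congr f.toEquiv, Nat.card_perm, Nat.card_fin] at hdvd
      exact small_dvd hp (hj ▸ h9) (hj ▸ hdvd) (by simp [Nat.factorial])
    · have h8' : Nat.card Λ = 8 := by omega
      have hp2 : p = 2 := by
        have : p ∣ 2 ^ 3 := by rw [show 2 ^ 3 = Nat.card Λ by rw [h8']; norm_num, hj]; exact dvd_pow_self p hj0
        exact (Nat.prime_dvd_prime_iff_eq hp Nat.prime_two).1 (hp.dvd_of_dvd_pow this)
      refine no_eight_in_perm_four (H := Multiplicative Λ) (by rw [Nat.card_congr Multiplicative.toAdd, h8']) (fun a => hι (by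
        rw [map_pow, map_one]; apply Subtype.ext; rw [SubmonoidClass.coe_pow]; have := hup (Multiplicative.toAdd a).1; simp only [hp2] at this; exact this))
        (f.toMonoidHom.comp ι) (f.injective.comp hι)
  · by_cases hge8 : 8 ≤ Nat.card Λ
    swap
    · obtain ⟨A, h, -, hA⟩ := a5_char_two p (hp2 hge8) f
      exact hrat A h (Or.inl hA)
    rw [Nat.card_congr f.toEquiv, nat_card_alternatingGroup, Nat.card_fin] at hdvd
    rcases Nat.lt_or_ge 8 (Nat.card Λ) with h9 | h9
    · exact small_dvd hp (hj ▸ h9) (hj ▸ hdvd) (by simp [Nat.factorial])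
    · have h8' : Nat.card Λ = 8 := by omega
      rw [h8'] at hdvd
      simp [Nat.factorial] at hdvd
  · exact hrat A h (Or.inl hA)
  · exact hrat A h (Or.inr hA)

/-- The same for at least eight transvections. -/
theorem exists_borel_outside (K : Subgroup SL(2, F)) (Λ : AddSubgroup F) (hΛ : ∀ b ∈ Λ, upper b ∈ K)
    {w : SL(2, F)} (hw : w ∈ K) (hw0 : (w : Matrix (Fin 2) (Fin 2) F) 1 0 ≠ 0) (B : Subfield F)
    (h8 : 8 ≤ Nat.card Λ) (hB : Nat.card B ^ 2 ≤ Nat.card Λ) :
    ∃ k ∈ K, (k : Matrix (Fin 2) (Fin 2) F) 1 0 = 0 ∧ (k : Matrix (Fin 2) (Fin 2) F) 0 0 ^ 2 ∉ B :=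
  exists_borel_outside' K Λ hΛ hw hw0 B (Or.inl h8) hB

end CfsgLib.Classical.SubfieldMax
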