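import Cfsg.Agent.Lib.Classical.SympMax
import Cfsg.Agent.Lib.Classical.SubfieldMax.Main

/-!
# Rational structures for alternating forms
-/

set_option autoImplicit false
set_option linter.unusedSectionVars false

open Module

namespace CfsgLib.Classical.SubfieldMax

variable {F : Type*} [Field F] [Fintype F] {V : Type*} [AddCommGroup V] [Module F V] [FiniteDimensional F V]
  {F₀ : Subfield F}

/-- A rational structure for `B`. -/
structure IsFrame (B : V →ₗ[F] V →ₗ[F] F) (V₀ : Submodule F₀ V) : Prop where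
  isAlt : B.IsAlt
  nondeg : B.Nondegenerate
  form : ∀ u ∈ V₀, ∀ v ∈ V₀, B u v ∈ F₀
  spans : Submodule.span F (V₀ : Set V) = ⊤

variable {B : V →ₗ[F] V →ₗ[F] F} {V₀ : Submodule F₀ V}

theorem coe_smul_eq (c : F₀) (v : V) : c • v = (c : F) • v := rfl

theorem smul_mem' {c : F} (hc : c ∈ F₀) {v : V} (hv : v ∈ V₀) : c • v ∈ V₀ :=
  V₀.smul_mem ⟨c, hc⟩ hv

instance finite_over_subfield : Module.Finite F₀ V :=
  haveI : Module.Finite F₀ F := Module.Finite.of_finite
  haveI : IsScalarTower F₀ F V := ⟨fun c a v => by rw [coe_smul_eq, Subfield.smul_def, smul_eq_mul, mul_smul]⟩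
  Module.Finite.trans F V

/-- The functional `y ↦ B y x` on rational vectors. -/
def pairing (B : V →ₗ[F] V →ₗ[F] F) (V₀ : Submodule F₀ V) (x : V) : V₀ →ₗ[F₀] F where
  toFun y := B (y : V) x
  map_add' a b := by simp
  map_smul' c a := by
    simp [coe_smul_eq, Subfield.smul_def]

@[simp] theorem pairing_apply (x : V) (y : V₀) : pairing B V₀ x y = B (y : V) x := rfl

/-- Square roots in characteristic two. -/
theorem exists_sq (h2 : (2 : F) = 0) (t : F) : ∃ s : F, s * s = t := by
  haveI : CharP F 2 := CharTwo.of_one_ne_zero_of_two_eq_zero one_ne_zero h2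
  obtain ⟨s, hs⟩ := FiniteField.isSquare_of_char_two (ringChar.eq F 2) t
  exact ⟨s, hs.symm⟩

namespace IsFrame

variable (hR : IsFrame B V₀)
include hR

theorem sep {x : V} (h : ∀ u ∈ V₀, B u x = 0) : x = 0 := by
  refine hR.nondeg.2 x fun y => ?_
  have hy : y ∈ Submodule.span F (V₀ : Set V) := hR.spans ▸ Submodule.mem_top
  induction hy using Submodule.span_induction with
  | mem u hu => exact h u hu
  | zero => simp
  | add a b _ _ ha hb => simp [ha, hb]
  | smul c a _ ha => simp [ha]

/-- The restricted form. -/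
def form₀ : V₀ →ₗ[F₀] V₀ →ₗ[F₀] F₀ :=
  LinearMap.mk₂ F₀ (fun a b => ⟨B (a : V) (b : V), hR.form _ a.2 _ b.2⟩)
    (fun a b c => Subtype.ext (by simp)) (fun c a b => Subtype.ext (by simp [coe_smul_eq]))
    (fun a b c => Subtype.ext (by simp)) (fun c a b => Subtype.ext (by simp [coe_smul_eq]))

theorem form₀_apply (a b : V₀) : ((hR.form₀ a b : F₀) : F) = B (a : V) (b : V) := rfl

theorem exists_of_dual (f : V₀ →ₗ[F₀] F₀) : ∃ z : V₀, ∀ a : V₀, B (a : V) (z : V) = (f a : F) := by
  have hN : hR.form₀.SeparatingRight := fun z hz => Subtype.ext (hR.sep fun u hu => by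
    have := congrArg Subtype.val (hz ⟨u, hu⟩)
    simpa [form₀_apply] using this)
  obtain ⟨z, hz⟩ := CfsgLib.Classical.exists_form_eq hN f
  exact ⟨z, fun a => by rw [← hR.form₀_apply, hz]⟩

theorem mem_of_pairing {x : V} (h : ∀ u ∈ V₀, B u x ∈ F₀) : x ∈ V₀ := by
  obtain ⟨z, hz⟩ := hR.exists_of_dual
    { toFun := fun a => ⟨B (a : V) x, h _ a.2⟩
      map_add' := fun a b => Subtype.ext (by simp)
      map_smul' := fun c a => Subtype.ext (by simp [coe_smul_eq]) }
  have hzx : x - (z : V) = 0 := hR.sep fun u hu => by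
    rw [map_sub, hz ⟨u, hu⟩]; simp
  rw [sub_eq_zero.1 hzx]
  exact z.2

theorem finrank_le : finrank F V ≤ finrank F₀ V₀ := by
  let b := Module.finBasis F₀ V₀
  let g : Fin (finrank F₀ V₀) → V := fun i => (b i : V)
  have hsub : (V₀ : Set V) ⊆ Submodule.span F (Set.range g) := by
    intro u hu
    have e := congrArg Subtype.val (b.sum_repr ⟨u, hu⟩)
    simp only [Submodule.coe_sum, SetLike.val_smul] at e
    rw [← e]
    exact Submodule.sum_mem _ fun i _ => Submodule.smul_mem _ _ (Submodule.subset_span ⟨i, rfl⟩)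
  have htop : Submodule.span F (Set.range g) = ⊤ :=
    eq_top_iff.2 (hR.spans ▸ Submodule.span_le.2 hsub)
  have := finrank_range_le_card (R := F) g
  rw [Set.finrank, htop, finrank_top, Fintype.card_fin] at this
  exact this

theorem swap (x y : V) : B x y = -B y x := alt_swap hR.isAlt x y

theorem symm_zero {x y : V} (h : B x y = 0) : B y x = 0 := by rw [hR.swap, h, neg_zero]

/-- Rational vectors orthogonal to a list, outside a subspace. -/
theorem exists_perp_outside (L : List V₀) (S : Submodule F₀ V₀) (h : finrank F₀ S + L.length < finrank F₀ V₀) :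
    ∃ y : V₀, y ∉ S ∧ ∀ a ∈ L, B (a : V) (y : V) = 0 := by
  let P : Submodule F₀ V₀ := ⨅ i : Fin L.length, LinearMap.ker (hR.form₀ (L.get i))
  have hP : finrank F₀ V₀ ≤ finrank F₀ P + L.length := by
    let Φ : V₀ →ₗ[F₀] (Fin L.length → F₀) := LinearMap.pi fun i => hR.form₀ (L.get i)
    have hk : LinearMap.ker Φ = P := by simp [Φ, P, LinearMap.ker_pi]
    have h1 := LinearMap.finrank_range_add_finrank_ker Φ
    have h2 : finrank F₀ (LinearMap.range Φ) ≤ L.length :=
      (Submodule.finrank_le _).trans (by simp)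
    rw [hk] at h1
    omega
  obtain ⟨y, hyP, hyS⟩ : ∃ y ∈ P, y ∉ S := by
    by_contra hc
    push Not at hc
    have := Submodule.finrank_mono (show P ≤ S from hc)
    omega
  refine ⟨y, hyS, fun a ha => ?_⟩
  obtain ⟨i, rfl⟩ := List.mem_iff_get.1 ha
  rw [← hR.form₀_apply, LinearMap.mem_ker.1 ((Submodule.mem_iInf _).1 hyP i)]
  rfl

end IsFrame

/-! ### Short root elements -/

variable (hA : B.IsAlt)

/-- The short root element `z ↦ z + t (B z u • v + B z v • u)` for orthogonal `u`, `v`. -/
def sh (u v : V) (t : F) : isomGroup B := tv hA (u + v) t * (tv hA u (-t) * tv hA v (-t))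

theorem sh_apply {u v : V} (h : B u v = 0) (t : F) (z : V) :
    (sh hA u v t).1 z = z + (t * B z u) • v + (t * B z v) • u := by
  have h' : B v u = 0 := by rw [alt_swap hA, h, neg_zero]
  simp only [sh, Subgroup.coe_mul, LinearEquiv.mul_apply, tv_apply, map_add, map_smul, LinearMap.add_apply,
    LinearMap.smul_apply, smul_eq_mul, hA u, hA v, h, h']
  module

theorem conj_sh (g : isomGroup B) (u v : V) (t : F) : g * sh hA u v t * g⁻¹ = sh hA (g.1 u) (g.1 v) t := by
  rw [sh, sh, ← map_add, ← conj_tv, ← conj_tv, ← conj_tv]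
  group

theorem sh_comm (u v : V) (h : B u v = 0) (t : F) : sh hA v u t = sh hA u v t := by
  refine Subtype.ext (LinearEquiv.ext fun z => ?_)
  rw [sh_apply hA (by rw [alt_swap hA, h, neg_zero]), sh_apply hA h]
  abel

theorem sh_smul {u v : V} (h : B u v = 0) (t : F) : sh hA u (t • v) 1 = sh hA u v t := by
  refine Subtype.ext (LinearEquiv.ext fun z => ?_)
  rw [sh_apply hA (by rw [map_smul, h, smul_zero]), sh_apply hA h, map_smul, smul_eq_mul, one_mul, one_mul, smul_smul,
    mul_comm (B z u) t]

theorem sh_add {u v : V} (h : B u v = 0) (s t : F) : sh hA u v (s + t) = sh hA u v s * sh hA u v t := by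
  refine Subtype.ext (LinearEquiv.ext fun z => ?_)
  have h' : B v u = 0 := by rw [alt_swap hA, h, neg_zero]
  simp only [Subgroup.coe_mul, LinearEquiv.mul_apply, sh_apply hA h, map_add, map_smul, LinearMap.add_apply,
    LinearMap.smul_apply, smul_eq_mul, hA u, hA v, h, h']
  module

theorem sh_zero {u v : V} (h : B u v = 0) : sh hA u v 0 = 1 :=
  Subtype.ext (LinearEquiv.ext fun z => by rw [sh_apply hA h]; simp)

theorem sh_neg {u v : V} (h : B u v = 0) (t : F) : sh hA u v (-t) = (sh hA u v t)⁻¹ :=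
  eq_inv_of_mul_eq_one_left (by rw [← sh_add hA h, neg_add_cancel, sh_zero hA h])

/-- Two short root elements with a common vector. -/
theorem sh_mul {u v w : V} (h : B u v = 0) (h' : B u w = 0) :
    sh hA u v 1 * sh hA u w 1 = sh hA u (v + w) 1 * tv hA u (B w v) := by
  refine Subtype.ext (LinearEquiv.ext fun z => ?_)
  have h2 : B v u = 0 := by rw [alt_swap hA, h, neg_zero]
  have h3 : B w u = 0 := by rw [alt_swap hA, h', neg_zero]
  simp only [Subgroup.coe_mul, LinearEquiv.mul_apply, sh_apply hA h, sh_apply hA h',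
    sh_apply hA (show B u (v + w) = 0 by rw [map_add, h, h', add_zero]), tv_apply, map_add, map_smul,
    LinearMap.add_apply, LinearMap.smul_apply, smul_eq_mul, hA u, h, h', h2, h3]
  module

/-- A transvection at a combination of orthogonal vectors. -/
theorem tv_add {u v : V} (h : B u v = 0) (k t : F) :
    tv hA (u + k • v) t = tv hA u t * sh hA u v (t * k) * tv hA v (t * k * k) := by
  refine Subtype.ext (LinearEquiv.ext fun z => ?_)
  have h2 : B v u = 0 := by rw [alt_swap hA, h, neg_zero]
  simp only [Subgroup.coe_mul, LinearEquiv.mul_apply, sh_apply hA h, tv_apply, map_add, map_smul,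
    LinearMap.add_apply, LinearMap.smul_apply, smul_eq_mul, hA u, hA v, h, h2]
  module

end CfsgLib.Classical.SubfieldMax
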