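import Cfsg.Agent.Lib.Classical.SubfieldMax.HermSpread

/-!
# From a nonrational unitary transvection to a nonrational short root element
-/

set_option autoImplicit false
set_option linter.unusedSectionVars false
set_option backward.isDefEq.respectTransparency false

open Module Matrix
open scoped MatrixGroups

namespace CfsgLib.Classical.SubfieldMax

variable {F : Type*} [Field F] [Fintype F] {V : Type*} [AddCommGroup V] [Module F V] [FiniteDimensional F V]
  {σ : F →+* F} {F₀ : Subfield F} {B : V →ₛₗ[σ] V →ₗ[F] F} {V₀ : Submodule F₀ V} {ε : F}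

/-- The functional `y ↦ B x y` on rational vectors. -/
def hPairing (B : V →ₛₗ[σ] V →ₗ[F] F) (V₀ : Submodule F₀ V) (x : V) : V₀ →ₗ[F₀] F where
  toFun y := B x (y : V)
  map_add' a b := by simp
  map_smul' c a := by simp [coe_smul_eq, Subfield.smul_def]

@[simp] theorem hPairing_apply (x : V) (y : V₀) : hPairing B V₀ x y = B x (y : V) := rfl

/-- The outer product of `w` with its conjugate is not rational. -/
def IsHBad (B : V →ₛₗ[σ] V →ₗ[F] F) (V₀ : Submodule F₀ V) (w : V) : Prop :=
  ∃ y u : V₀, B (y : V) (y : V) = 0 ∧ B (u : V) (u : V) = 0 ∧ B (y : V) w * σ (B (u : V) w) ∉ F₀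

variable {hR : IsHFrame B V₀ ε} {M : Subgroup (isomGroup B)}
variable (hM : RatHTv hR M) (hdim : 6 ≤ finrank F₀ V₀)
include hM hdim

/-- A bad isotropic vector with an orthogonal isotropic rational vector orthogonal to a bad pair. -/
theorem exists_hasHS_core {w : V} (hww : B w w = 0) (hw : hR.hTv w 1 ∈ M) {y u a : V₀}
    (hyy : B (y : V) (y : V) = 0) (huu : B (u : V) (u : V) = 0) (hyu : B (y : V) w * σ (B (u : V) w) ∉ F₀)
    (ha0 : a ≠ 0) (haa : B (a : V) (a : V) = 0) (hwa : B w (a : V) = 0) (hay : B (a : V) (y : V) = 0)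
    (hau : B (a : V) (u : V) = 0) :
    ∃ (μ : F) (a v : V₀), μ ∉ F₀ ∧ a ≠ 0 ∧ v ∉ Submodule.span F₀ {y | y ∈ [a]} ∧ HasHS hR M μ a v := by
  have haw := hR.symm_zero hwa
  set k := B (y : V) w with hk
  have hcomm : ∀ (x : V) (t : F), B x x = 0 → B (a : V) x = 0 → σ t = t →
      hR.hS (a : V) x 1 * hR.hTv (a : V) t = hR.hTv (a : V) t * hR.hS (a : V) x 1 := by
    intro x t hxx hax ht
    have e3 : (hR.hS (a : V) x 1).1 (a : V) = a := by
      rw [hR.hS_apply haa hxx hax, hR.symm_zero hax, haa]; simp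
    have e4 := hR.conj_hTv (hR.hS (a : V) x 1) haa ht
    rwa [e3, mul_inv_eq_iff_eq_mul] at e4
  -- the root element at `a`
  set x := σ (ε * k) • w with hx
  have hax : B (a : V) x = 0 := by rw [hx, map_smul, haw, smul_zero]
  have hxx : B x x = 0 := by rw [hx, hR.herm.smul_self, hww, mul_zero]
  obtain ⟨t, ht, hE⟩ : ∃ t, σ t = t ∧ hR.hS (a : V) x 1 * hR.hTv (a : V) t ∈ M := by
    refine ⟨ε * k * σ (ε * k), hR.herm.conj.norm_fixed _, ?_⟩
    have hσ := hM.hS_mem a.2 y.2 haa hyy hay (one_mem F₀)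
    have h3 := mul_mem (mul_mem hσ hw) (inv_mem hσ)
    rw [hR.conj_hTv _ hww (map_one σ), hR.hS_apply haa hyy hay, haw, mul_zero, zero_smul, add_zero, mul_one, ← hk,
      hR.hTv_add haa hww hwa _ (map_one σ), mul_assoc, one_mul, one_mul,
      hR.hS_swap haa hww haw, hR.invol] at h3
    have h4 := (Subgroup.mul_mem_cancel_left M hw).1 h3
    rwa [hx, hR.hS_smul haa hww haw, one_mul, hR.invol]
  -- move `x` by the transvection at `u`
  set μ := ε * B (u : V) x with hμdef
  have hμ : μ ∉ F₀ := by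
    intro h
    apply hyu
    rw [hμdef, hx, map_smul, smul_eq_mul, map_mul] at h
    have h1 := div_mem h (mul_mem hR.eps_mem (hR.stable _ hR.eps_mem))
    rw [show ε * (σ ε * σ k * B (u : V) w) = σ k * B (u : V) w * (ε * σ ε) by ring,
      mul_div_cancel_right₀ _ (mul_ne_zero hR.eps_ne ((map_ne_zero σ).2 hR.eps_ne))] at h1
    have h2 := hR.stable _ h1
    rwa [map_mul, hR.invol] at h2
  set m := σ μ with hm
  obtain ⟨d, hd, hE'⟩ : ∃ d, σ d = d ∧ hR.hS (a : V) (u : V) m * hR.hTv (a : V) d ∈ M := by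
    have hσ := hM u u.2 huu 1 (one_mem _) (map_one σ)
    have hua := hR.symm_zero hau
    have h3 := mul_mem (mul_mem hσ hE) (inv_mem hσ)
    have hfix : (hR.hTv (u : V) 1).1 (a : V) = a := by
      rw [hR.hTv_apply huu (map_one σ), hua, mul_zero, zero_smul, add_zero]
    have hmove : (hR.hTv (u : V) 1).1 x = x + μ • (u : V) := by rw [hR.hTv_apply huu (map_one σ), mul_one]
    rw [show hR.hTv (u : V) 1 * (hR.hS (a : V) x 1 * hR.hTv (a : V) t) * (hR.hTv (u : V) 1)⁻¹ =
        (hR.hTv (u : V) 1 * hR.hS (a : V) x 1 * (hR.hTv (u : V) 1)⁻¹) *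
          (hR.hTv (u : V) 1 * hR.hTv (a : V) t * (hR.hTv (u : V) 1)⁻¹) by group,
      hR.conj_hS _ haa hxx hax, hR.conj_hTv _ haa ht, hfix, hmove] at h3
    have hμu : B (a : V) (μ • (u : V)) = 0 := by rw [map_smul, hau, smul_zero]
    have huu' : B (μ • (u : V)) (μ • (u : V)) = 0 := by rw [hR.herm.smul_self, huu, mul_zero]
    have hiso : B x (μ • (u : V)) + σ (B x (μ • (u : V))) = 0 := by
      have h5 : B ((hR.hTv (u : V) 1).1 x) ((hR.hTv (u : V) 1).1 x) = 0 := by rw [isomGroup_apply, hxx]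
      rw [hmove, hR.herm.add_self, hxx, huu', zero_add, zero_add] at h5
      exact h5
    obtain ⟨hdfix, hmul⟩ := hR.hS_mul haa hxx huu' hax hμu hiso
    set d := ε * B x (μ • (u : V))
    have hd' : σ (-d) = -d := by rw [map_neg, hdfix]
    have e2 : hR.hS (a : V) (x + μ • (u : V)) 1 =
        hR.hS (a : V) x 1 * hR.hS (a : V) (μ • (u : V)) 1 * hR.hTv (a : V) (-d) := by
      rw [hmul, mul_assoc, hR.hTv_mul haa hdfix hd', add_neg_cancel, hR.hTv_zero, mul_one]
    rw [e2] at h3
    refine ⟨-d, hd', ?_⟩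
    have h6 := mul_mem (inv_mem hE) h3
    have e5 : (hR.hS (a : V) x 1 * hR.hTv (a : V) t)⁻¹ * (hR.hS (a : V) x 1 * hR.hS (a : V) (μ • (u : V)) 1 *
        hR.hTv (a : V) (-d) * hR.hTv (a : V) t) =
        (hR.hTv (a : V) t)⁻¹ * (hR.hS (a : V) (μ • (u : V)) 1 * hR.hTv (a : V) (-d) * hR.hTv (a : V) t) := by
      group
    have e6 : hR.hS (a : V) (μ • (u : V)) 1 * hR.hTv (a : V) (-d) * hR.hTv (a : V) t =
        hR.hTv (a : V) t * (hR.hS (a : V) (μ • (u : V)) 1 * hR.hTv (a : V) (-d)) := by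
      rw [mul_assoc, hR.hTv_mul haa hd' ht, add_comm, ← hR.hTv_mul haa ht hd', ← mul_assoc,
        hcomm _ t huu' hμu ht, mul_assoc]
    rw [e5, e6, ← mul_assoc, inv_mul_cancel, one_mul] at h6
    rwa [hR.hS_smul haa huu hau, one_mul] at h6
  -- shift `u` by a rational vector
  have hua := hR.symm_zero hau
  have hu : u ∉ Submodule.span F₀ {z | z ∈ [a]} := by
    rw [mem_span_single]
    rintro ⟨c, rfl⟩
    apply hyu
    rw [SetLike.val_smul, coe_smul_eq, map_smulₛₗ, LinearMap.smul_apply, haw, smul_zero, map_zero, mul_zero]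
    exact zero_mem _
  obtain ⟨y', hy'y', huy', hyL⟩ := hR.exists_iso_partner huu [a] (by simp [hau]) hu
  obtain ⟨v, hv, hvv, hvL⟩ := hR.exists_iso_outside' [a, y', u] (Submodule.span F₀ {z | z ∈ [a]})
    (by have := finrank_list_le [a]; simp at this ⊢; omega)
  have hm0 : m ∉ F₀ := fun h => hμ (by rw [← hR.invol μ]; exact hR.stable _ h)
  have hav : B (a : V) (v : V) = 0 := hvL a (by simp)
  have huv : B (u : V) (v : V) = 0 := hvL u (by simp)
  have hvy : B (v : V) (y' : V) = 0 := hR.symm_zero (hvL y' (by simp))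
  have hay' : B (a : V) (y' : V) = 0 := hyL a (by simp)
  refine ⟨m, a, v, hm0, ha0, hv, haa, hvv, hav, ?_⟩
  have hσ := hM.hS_mem v.2 y'.2 hvv hy'y' hvy (inv_mem hR.eps_mem)
  set g := hR.hS (v : V) (y' : V) ε⁻¹
  have hfix : g.1 (a : V) = a := by
    rw [hR.hS_apply hvv hy'y' hvy, hR.symm_zero hav, hR.symm_zero hay']; simp
  have hmove : g.1 (u : V) = (u : V) + (v : V) := by
    rw [hR.hS_apply hvv hy'y' hvy, hR.symm_zero huv, show B (y' : V) (u : V) = 1 by rw [← hR.symm, huy', map_one],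
      mul_inv_cancel₀ hR.eps_ne]
    simp
  have h3 := mul_mem (mul_mem hσ hE') (inv_mem hσ)
  rw [show g * (hR.hS (a : V) (u : V) m * hR.hTv (a : V) d) * g⁻¹ =
      (g * hR.hS (a : V) (u : V) m * g⁻¹) * (g * hR.hTv (a : V) d * g⁻¹) by group,
    hR.conj_hS _ haa huu hau, hR.conj_hTv _ haa hd, hfix, hmove] at h3
  have e2 : hR.hS (a : V) ((u : V) + (v : V)) m = hR.hS (a : V) (v : V) m * hR.hS (a : V) (u : V) m := by
    refine Subtype.ext (LinearEquiv.ext fun z => ?_)
    have h1 : B ((u : V) + (v : V)) ((u : V) + (v : V)) = 0 := by simp [huu, hvv, huv, hR.symm_zero huv]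
    simp only [Subgroup.coe_mul, LinearEquiv.mul_apply, hR.hS_apply haa h1 (show B (a : V) ((u : V) + (v : V)) = 0 by
      rw [map_add, hau, hav, add_zero]), hR.hS_apply haa hvv hav, hR.hS_apply haa huu hau, map_add, map_smul,
      LinearMap.add_apply, smul_eq_mul, haa, hau, hav, hR.symm_zero hav, hR.symm_zero huv, hua]
    module
  rw [e2, mul_assoc] at h3
  exact (Subgroup.mul_mem_cancel_right M hE').1 h3

/-- A bad isotropic vector with enough rational vectors orthogonal to it. -/
theorem exists_hasHS_of_perp {w : V} (hww : B w w = 0) (hw : hR.hTv w 1 ∈ M) (hbad : IsHBad B V₀ w)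
    (hN : 2 ≤ finrank F₀ (LinearMap.ker (hPairing B V₀ w))) :
    ∃ (μ : F) (a v : V₀), μ ∉ F₀ ∧ a ≠ 0 ∧ v ∉ Submodule.span F₀ {y | y ∈ [a]} ∧ HasHS hR M μ a v := by
  classical
  obtain ⟨y, u, hyy, huu, hyu⟩ := hbad
  set N := LinearMap.ker (hPairing B V₀ w) with hNdef
  by_cases hN4 : 4 ≤ finrank F₀ N
  · let Φ : V₀ →ₗ[F₀] F₀ × F₀ := (hR.form₀ y).prod (hR.form₀ u)
    have hd : 2 ≤ finrank F₀ ↥(N ⊓ LinearMap.ker Φ) := by
      have h1 := Φ.finrank_range_add_finrank_ker
      have h2 : finrank F₀ (LinearMap.range Φ) ≤ 2 := (Submodule.finrank_le _).trans (by simp)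
      have h3 := Submodule.finrank_sup_add_finrank_inf_eq N (LinearMap.ker Φ)
      have h4 := Submodule.finrank_le (N ⊔ LinearMap.ker Φ)
      omega
    obtain ⟨a, ⟨haN, haΦ⟩, ha0, haa⟩ := hR.exists_iso_in _ hd
    exact exists_hasHS_core hM hdim hww hw hyy huu hyu ha0 haa haN
      (hR.symm_zero (hR.form₀_eq_zero.1 (congrArg Prod.fst haΦ)))
      (hR.symm_zero (hR.form₀_eq_zero.1 (congrArg Prod.snd haΦ)))
  obtain ⟨a, haN, ha0, haa⟩ := hR.exists_iso_in N hN
  by_contra hno
  -- otherwise the pairings on the vectors orthogonal to `a` are proportional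
  have hiso : ∀ p ∈ IsHFrame.isoPerp B V₀ [a], ∀ p' ∈ IsHFrame.isoPerp B V₀ [a],
      B (p : V) w * σ (B (p' : V) w) ∈ F₀ := fun p hp p' hp' => by
    by_contra h
    exact hno (exists_hasHS_core hM hdim hww hw hp.1 hp'.1 h ha0 haa haN (hp.2 a (by simp)) (hp'.2 a (by simp)))
  set P := LinearMap.ker (hR.form₀ a) with hP
  have hspan : ∀ p ∈ P, p ∈ Submodule.span F₀ (IsHFrame.isoPerp B V₀ [a]) := fun p hp =>
    hR.mem_span_iso [a] (by simp; omega) (by simpa using hR.form₀_eq_zero.1 hp)
  have hall : ∀ p ∈ P, ∀ p' ∈ P, B (p : V) w * σ (B (p' : V) w) ∈ F₀ := by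
    intro p hp p' hp'
    have h1 := hspan p hp
    have h2 := hspan p' hp'
    clear hp hp'
    induction h1 using Submodule.span_induction with
    | mem p hp =>
      induction h2 using Submodule.span_induction with
      | mem p' hp' => exact hiso p hp p' hp'
      | zero => simp
      | add b c _ _ hb hc => simpa [mul_add] using add_mem hb hc
      | smul d b _ hb =>
        simp only [SetLike.val_smul, coe_smul_eq, map_smulₛₗ, LinearMap.smul_apply, smul_eq_mul, map_mul, hR.invol]
        rw [mul_left_comm]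
        exact mul_mem d.2 hb
    | zero => simp
    | add b c _ _ hb hc => simpa [add_mul] using add_mem hb hc
    | smul d b _ hb =>
      simp only [SetLike.val_smul, coe_smul_eq, map_smulₛₗ, LinearMap.smul_apply, smul_eq_mul, mul_assoc]
      exact mul_mem (hR.stable _ d.2) hb
  have hPd : finrank F₀ V₀ ≤ finrank F₀ P + 1 := by
    have h1 := (hR.form₀ a).finrank_range_add_finrank_ker
    have h2 : finrank F₀ (LinearMap.range (hR.form₀ a)) ≤ 1 := (Submodule.finrank_le _).trans (by simp)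
    rw [← hP] at h1
    omega
  obtain ⟨p₁, hp₁, hp₁w⟩ : ∃ p₁ ∈ P, B w (p₁ : V) ≠ 0 := by
    by_contra hc
    push Not at hc
    have := Submodule.finrank_mono (show P ≤ N from fun p hp => hc p hp)
    omega
  have hle : P ≤ N ⊔ Submodule.span F₀ {p₁} := by
    intro p hp
    have h1 := hR.stable _ (hall p hp p₁ hp₁)
    have h2 := hR.stable _ (hall p₁ hp₁ p₁ hp₁)
    rw [map_mul, hR.invol, hR.symm] at h1 h2
    have h3 := div_mem h1 h2
    have hσ : B (p₁ : V) w ≠ 0 := fun e => hp₁w (hR.symm_zero e)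
    rw [mul_div_mul_right _ _ hσ] at h3
    set c : F₀ := ⟨_, h3⟩
    refine Submodule.mem_sup.2 ⟨p - c • p₁, ?_, c • p₁, Submodule.smul_mem _ _ (Submodule.mem_span_singleton_self _),
      sub_add_cancel _ _⟩
    rw [hNdef, LinearMap.mem_ker, hPairing_apply, Submodule.coe_sub, SetLike.val_smul, coe_smul_eq, map_sub, map_smul,
      smul_eq_mul, sub_eq_zero]
    exact (div_mul_cancel₀ _ hp₁w).symm
  have h1 := Submodule.finrank_mono hle
  have h2 := Submodule.finrank_add_le_finrank_add_finrank N (Submodule.span F₀ ({p₁} : Set V₀))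
  have h3 : finrank F₀ (Submodule.span F₀ ({p₁} : Set V₀)) ≤ 1 := by
    simpa using finrank_span_le_card (R := F₀) ({p₁} : Set V₀)
  omega

set_option maxHeartbeats 1600000 in
/-- A bad isotropic vector gives a nonrational short root element. -/
theorem exists_hasHS_of_bad {r : ℕ} (hr : r.Prime) (hcard : Fintype.card F = Nat.card F₀ ^ r) {w : V}
    (hww : B w w = 0) (hw : hR.hTv w 1 ∈ M) (hbad : IsHBad B V₀ w) :
    ∃ (μ : F) (a v : V₀), μ ∉ F₀ ∧ a ≠ 0 ∧ v ∉ Submodule.span F₀ {y | y ∈ [a]} ∧ HasHS hR M μ a v := by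
  classical
  by_cases hN2 : 2 ≤ finrank F₀ (LinearMap.ker (hPairing B V₀ w))
  · exact exists_hasHS_of_perp hM hdim hww hw hbad hN2
  set N := LinearMap.ker (hPairing B V₀ w) with hNdef
  have hr5 : 5 ≤ r := by
    have h1 := (hPairing B V₀ w).finrank_range_add_finrank_ker
    have h2 : finrank F₀ (LinearMap.range (hPairing B V₀ w)) ≤ r := by
      refine (Submodule.finrank_le _).trans ?_
      have h := Module.natCard_eq_pow_finrank (K := F₀) (V := F)
      rw [Nat.card_eq_fintype_card, hcard] at h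
      exact (Nat.pow_right_injective Finite.one_lt_card h).ge
    have h3 : finrank F₀ N ≤ 1 := by omega
    change _ + finrank F₀ N = _ at h1
    omega
  -- two orthogonal isotropic rational vectors with independent pairings
  obtain ⟨u, hiso, hind⟩ : ∃ u : Fin 2 → V₀, (∀ i j, B (u i : V) (u j : V) = 0) ∧
      ∀ c : Fin 2 → F₀, B w ((∑ i, c i • u i : V₀) : V) = 0 → c = 0 := by
    have step : ∀ L : List V₀, L.length ≤ 1 → ∃ y : V₀,
        y ∉ Submodule.span F₀ {z | z ∈ L} ⊔ N ∧ B (y : V) (y : V) = 0 ∧ ∀ a ∈ L, B (a : V) (y : V) = 0 := fun L hL =>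
      hR.exists_iso_outside L _ (by omega) (by
        have h1 := Submodule.finrank_add_le_finrank_add_finrank (Submodule.span F₀ {z | z ∈ L}) N
        have h2 := finrank_list_le L
        omega)
    obtain ⟨u0, h0, q00, -⟩ := step [] (by simp)
    obtain ⟨u1, h1, q11, p1⟩ := step [u0] (by simp)
    refine ⟨![u0, u1], ?_, fun c hc => ?_⟩
    · have q10 := p1 u0 (by simp)
      intro i j
      fin_cases i <;> fin_cases j <;>
        first
          | assumption
          | exact hR.symm_zero (by assumption)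
    · have hcN : (∑ i, c i • ![u0, u1] i : V₀) ∈ N := hc
      have e : (∑ i, c i • ![u0, u1] i : V₀) = c 0 • u0 + c 1 • u1 := by
        simp [Fin.sum_univ_two]
      rw [e] at hcN
      have key : ∀ (L : List V₀) (y z : V₀) (d : F₀), y ∉ Submodule.span F₀ {z | z ∈ L} ⊔ N →
          z ∈ Submodule.span F₀ {z | z ∈ L} → z + d • y ∈ N → d = 0 := by
        intro L y z d hy hz hzy
        by_contra hd
        refine hy ?_
        have e : y = d⁻¹ • ((z + d • y) - z) := by
          rw [add_sub_cancel_left, smul_smul, inv_mul_cancel₀ hd, one_smul]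
        rw [e]
        exact Submodule.smul_mem _ _ (sub_mem (Submodule.mem_sup_right hzy) (Submodule.mem_sup_left hz))
      have m : ∀ {L : List V₀} {z : V₀} (d : F₀), z ∈ L → d • z ∈ Submodule.span F₀ {z | z ∈ L} := fun d hz =>
        Submodule.smul_mem _ _ (Submodule.subset_span hz)
      have e1 : c 1 = 0 := key [u0] u1 _ _ h1 (m _ (by simp)) hcN
      rw [e1, zero_smul, add_zero] at hcN
      have e0 : c 0 = 0 := key [] u0 0 _ h0 (zero_mem _) (by simpa using hcN)
      funext i; fin_cases i <;> assumption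
  set β : Fin 2 → F := fun i => B w (u i : V) with hβ
  let βc : (Fin 2 → F₀) → F := fun c => ∑ i, (c i : F) * β i
  have hβc : ∀ c : Fin 2 → F₀, B w ((∑ i, c i • u i : V₀) : V) = βc c := fun c => by
    simp [βc, hβ, Submodule.coe_sum, map_sum, coe_smul_eq]
  have hβinj : ∀ c, βc c = 0 → c = 0 := fun c hc => hind c (by rw [hβc, hc])
  have hone : ∀ i, βc (Pi.single i 1) = β i := fun i => by
    simp [-Fin.sum_univ_two, βc, Pi.single_apply, apply_ite (Subtype.val : F₀ → F), ite_mul]
  have hβ0 : β 0 ≠ 0 := fun h => by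
    have := congrFun (hβinj (Pi.single 0 1) (by rw [hone, h])) 0
    simp at this
  have hβadd : ∀ c c', βc (c + c') = βc c + βc c' := fun c c' => by
    simp only [βc, Pi.add_apply, AddMemClass.coe_add, add_mul, Finset.sum_add_distrib]
  have hβsmul : ∀ (d : F₀) c, βc (d • c) = (d : F) * βc c := fun d c => by
    simp only [βc, Pi.smul_apply, smul_eq_mul, MulMemClass.coe_mul, mul_assoc, Finset.mul_sum]
  -- the span of the members and its part orthogonal to `w`
  let UF : Submodule F V := Submodule.span F (Set.range fun i => (u i : V))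
  have hUFiso : ∀ a ∈ UF, ∀ b ∈ UF, B a b = 0 := by
    intro a ha b hb
    induction ha using Submodule.span_induction with
    | mem a ha =>
      obtain ⟨i, rfl⟩ := ha
      induction hb using Submodule.span_induction with
      | mem b hb => obtain ⟨j, rfl⟩ := hb; exact hiso i j
      | zero => simp
      | add a b _ _ ha hb => simp [ha, hb]
      | smul c a _ ha => simp [ha]
    | zero => simp
    | add a b _ _ ha hb => simp [ha, hb]
    | smul c a _ ha => simp [ha]
  have hmemUF : ∀ c : Fin 2 → F₀, ((∑ i, c i • u i : V₀) : V) ∈ UF := fun c => by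
    rw [Submodule.coe_sum]
    exact Submodule.sum_mem _ fun i _ => by
      rw [SetLike.val_smul, coe_smul_eq]; exact Submodule.smul_mem _ _ (Submodule.subset_span ⟨i, rfl⟩)
  set e := (u 0 : V) with he
  have heUF : e ∈ UF := Submodule.subset_span ⟨0, rfl⟩
  have hwe : B w e = β 0 := rfl
  let Z : Submodule F V := UF ⊓ LinearMap.ker (B w)
  have hzU : ∀ c, ((∑ i, c i • u i : V₀) : V) - (βc c / β 0) • e ∈ Z := fun c => by
    refine ⟨sub_mem (hmemUF c) (UF.smul_mem _ heUF), ?_⟩
    show B w (((∑ i, c i • u i : V₀) : V) - (βc c / β 0) • e) = 0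
    rw [map_sub, map_smul, hβc, smul_eq_mul, hwe, div_mul_cancel₀ _ hβ0, sub_self]
  -- the group induced on the plane
  let K₀ : Submonoid SL(2, F) :=
    { carrier := {k | ∃ m ∈ M,
        (m.1 e - ((k : Matrix (Fin 2) (Fin 2) F) 0 0 • e + (k : Matrix (Fin 2) (Fin 2) F) 1 0 • w) ∈ Z) ∧
        (m.1 w - ((k : Matrix (Fin 2) (Fin 2) F) 0 1 • e + (k : Matrix (Fin 2) (Fin 2) F) 1 1 • w) ∈ Z) ∧
        ∀ z ∈ Z, m.1 z = z}
      one_mem' := ⟨1, M.one_mem, by simp, by simp, fun z _ => rfl⟩
      mul_mem' := by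
        rintro k k' ⟨m, hm, h1, h2, h3⟩ ⟨m', hm', h1', h2', h3'⟩
        refine ⟨m * m', M.mul_mem hm hm', ?_, ?_, fun z hz => by
          rw [Subgroup.coe_mul, LinearEquiv.mul_apply, h3' z hz, h3 z hz]⟩
        · show _ - (((k : Matrix (Fin 2) (Fin 2) F) * (k' : Matrix (Fin 2) (Fin 2) F)) 0 0 • e +
            ((k : Matrix (Fin 2) (Fin 2) F) * (k' : Matrix (Fin 2) (Fin 2) F)) 1 0 • w) ∈ Z
          have e2 := h3 _ h1'
          rw [map_sub, map_add, map_smul, map_smul, sub_eq_iff_eq_add] at e2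
          simp only [Matrix.mul_apply, Fin.sum_univ_two]
          rw [Subgroup.coe_mul, LinearEquiv.mul_apply, e2]
          convert add_mem h1' (add_mem (Z.smul_mem ((k' : Matrix (Fin 2) (Fin 2) F) 0 0) h1)
            (Z.smul_mem ((k' : Matrix (Fin 2) (Fin 2) F) 1 0) h2)) using 1
          module
        · show _ - (((k : Matrix (Fin 2) (Fin 2) F) * (k' : Matrix (Fin 2) (Fin 2) F)) 0 1 • e +
            ((k : Matrix (Fin 2) (Fin 2) F) * (k' : Matrix (Fin 2) (Fin 2) F)) 1 1 • w) ∈ Z
          have e2 := h3 _ h2'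
          rw [map_sub, map_add, map_smul, map_smul, sub_eq_iff_eq_add] at e2
          simp only [Matrix.mul_apply, Fin.sum_univ_two]
          rw [Subgroup.coe_mul, LinearEquiv.mul_apply, e2]
          convert add_mem h2' (add_mem (Z.smul_mem ((k' : Matrix (Fin 2) (Fin 2) F) 0 1) h1)
            (Z.smul_mem ((k' : Matrix (Fin 2) (Fin 2) F) 1 1) h2)) using 1
          module }
  let K : Subgroup SL(2, F) :=
    { K₀ with
      inv_mem' := fun {k} hk => by
        have e : k⁻¹ = k ^ (orderOf k - 1) := inv_eq_of_mul_eq_one_right (by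
          rw [← pow_succ', Nat.sub_add_cancel (orderOf_pos k), pow_orderOf_eq_one])
        show k⁻¹ ∈ K₀
        rw [e]
        exact pow_mem hk _ }
  let Λ : AddSubgroup F := AddSubgroup.closure
    {b | ∃ (t : F₀) (c : Fin 2 → F₀), σ (t : F) = t ∧ b = ε * (t : F) * σ (βc c) * βc c / β 0}
  have hsub : ∀ b ∈ Λ, upper b ∈ K := by
    intro b hb
    induction hb using AddSubgroup.closure_induction with
    | mem b hb =>
      obtain ⟨t, c, ht, rfl⟩ := hb
      set U := ((∑ i, c i • u i : V₀) : V) with hU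
      have hUU : B U U = 0 := hUFiso U (hmemUF c) U (hmemUF c)
      refine ⟨_, hM U (SetLike.coe_mem _) hUU t t.2 ht, ?_, ?_, fun z hz => ?_⟩
      · rw [hR.hTv_apply hUU ht, hUFiso U (hmemUF c) e heUF]
        simp [upper]
      · rw [hR.hTv_apply hUU ht, show B U w = σ (βc c) by rw [← hR.symm w U, hU, hβc]]
        convert Z.smul_mem (ε * (t : F) * σ (βc c)) (hzU c) using 1
        simp [upper, hU]
        module
      · rw [hR.hTv_apply hUU ht, hUFiso U (hmemUF c) z hz.1, mul_zero, zero_smul, add_zero]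
    | zero =>
      rw [show upper (0 : F) = 1 by
        apply Matrix.SpecialLinearGroup.ext; intro i j; fin_cases i <;> fin_cases j <;> simp [upper]]
      exact K.one_mem
    | add a b _ _ ha hb =>
      rw [show upper (a + b) = upper a * upper b by
        apply Matrix.SpecialLinearGroup.ext; intro i j
        fin_cases i <;> fin_cases j <;> simp [upper, Matrix.mul_apply, Fin.sum_univ_two, add_comm]]
      exact mul_mem ha hb
    | neg a _ ha =>
      rw [show upper (-a) = (upper a)⁻¹ by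
        apply eq_inv_of_mul_eq_one_left
        apply Matrix.SpecialLinearGroup.ext; intro i j
        fin_cases i <;> fin_cases j <;> simp [upper, Matrix.mul_apply, Fin.sum_univ_two]]
      exact inv_mem ha
  let w₀ : SL(2, F) := ⟨!![1, 0; ε * β 0, 1], by simp⟩
  have hw₀ : w₀ ∈ K := by
    refine ⟨_, hw, ?_, ?_, fun z hz => ?_⟩
    · rw [hR.hTv_apply hww (map_one σ), mul_one, hwe]
      simp [w₀]
    · rw [hR.hTv_apply hww (map_one σ), hww]; simp [w₀]
    · rw [hR.hTv_apply hww (map_one σ), show B w z = 0 from hz.2]; simp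
  -- the fixed field inside `F₀`
  let k₀ : Subfield F := F₀ ⊓ σ.eqLocusField (RingHom.id F)
  obtain ⟨d₀, hd₀, hd₀'⟩ := hR.twisted
  have hk₀ : Nat.card k₀ ^ 2 ≤ Nat.card F₀ := by
    rw [pow_two, ← Nat.card_prod]
    refine Nat.card_le_card_of_injective (fun p : k₀ × k₀ => (⟨(p.1 : F) + d₀ * p.2,
      add_mem p.1.2.1 (mul_mem hd₀ p.2.2.1)⟩ : F₀)) ?_
    rintro ⟨⟨a, ha, ha'⟩, ⟨b, hb, hb'⟩⟩ ⟨⟨a', hc, hc'⟩, ⟨b', hd, hd'⟩⟩ h
    have h1 : a + d₀ * b = a' + d₀ * b' := congrArg Subtype.val h
    have h2 := congrArg σ h1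
    rw [map_add, map_add, map_mul, map_mul, show σ a = a from ha', show σ b = b from hb',
      show σ a' = a' from hc', show σ b' = b' from hd'] at h2
    have h3 : (σ d₀ - d₀) * (b - b') = 0 := by linear_combination h2 - h1
    have h4 : b = b' := sub_eq_zero.1 ((mul_eq_zero.1 h3).resolve_left (sub_ne_zero.2 hd₀'))
    have h5 : a = a' := by rw [h4] at h1; exact add_right_cancel h1
    subst h4 h5
    rfl
  have hΛcard : Nat.card k₀ ^ 2 ≤ Nat.card Λ := by
    let d₁ : Fin 2 → F₀ := Pi.single 0 1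
    let T : (Fin 2 → F₀) →+ F :=
      { toFun := fun c => σ (β 0) * βc c + β 0 * σ (βc c)
        map_zero' := by simp [βc]
        map_add' := fun a b => by rw [hβadd, map_add]; ring }
    have hker : Nat.card T.ker ^ 2 ≤ Nat.card (Fin 2 → F₀) := by
      rw [pow_two, ← Nat.card_prod]
      refine Nat.card_le_card_of_injective
        (fun p : T.ker × T.ker => (p.1 : Fin 2 → F₀) + (⟨d₀, hd₀⟩ : F₀) • (p.2 : Fin 2 → F₀)) ?_
      rintro ⟨⟨a, ha⟩, ⟨b, hb⟩⟩ ⟨⟨a', ha'⟩, ⟨b', hb'⟩⟩ h
      change a + (⟨d₀, hd₀⟩ : F₀) • b = a' + (⟨d₀, hd₀⟩ : F₀) • b' at h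
      rw [AddMonoidHom.mem_ker] at ha ha' hb hb'
      have hX : T (b - b') = 0 := by rw [map_sub, hb, hb', sub_zero]
      have hY : T ((⟨d₀, hd₀⟩ : F₀) • (b - b')) = 0 := by
        rw [show (⟨d₀, hd₀⟩ : F₀) • (b - b') = a' - a by
          rw [smul_sub, sub_eq_sub_iff_add_eq_add, add_comm, h, add_comm], map_sub, ha, ha', sub_zero]
      change σ (β 0) * βc (b - b') + β 0 * σ (βc (b - b')) = 0 at hX
      change σ (β 0) * βc ((⟨d₀, hd₀⟩ : F₀) • (b - b')) + β 0 * σ (βc ((⟨d₀, hd₀⟩ : F₀) • (b - b'))) = 0 at hY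
      rw [hβsmul, map_mul] at hY
      have h3 : (σ d₀ - d₀) * (σ (β 0) * βc (b - b')) = 0 := by
        linear_combination (σ d₀) * hX - hY
      have h4 : b = b' := sub_eq_zero.1 (hβinj _ (by
        rcases mul_eq_zero.1 h3 with h4 | h4
        · exact absurd (sub_eq_zero.1 h4) hd₀'
        · exact (mul_eq_zero.1 h4).resolve_left ((map_ne_zero σ).2 hβ0)))
      subst h4
      obtain rfl := add_right_cancel h
      rfl
    have hprod : Nat.card T.ker * Nat.card T.range = Nat.card (Fin 2 → F₀) := by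
      rw [← Nat.card_congr (QuotientAddGroup.quotientKerEquivRange T).toEquiv, mul_comm,
        ← AddSubgroup.card_eq_card_quotient_mul_card_addSubgroup]
    have him : Nat.card T.range ≤ Nat.card Λ := by
      refine Nat.card_le_card_of_injective (fun X => ⟨ε * (X : F) / β 0, ?_⟩) fun X Y h => ?_
      · obtain ⟨c, hc⟩ := X.2
        rw [← hc]
        have g : ∀ c', ε * σ (βc c') * βc c' / β 0 ∈ Λ := fun c' =>
          AddSubgroup.subset_closure ⟨1, c', map_one σ, by simp⟩
        have e1 : ε * T c / β 0 = ε * σ (βc (c + d₁)) * βc (c + d₁) / β 0 +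
            -(ε * σ (βc c) * βc c / β 0) + -(ε * σ (βc d₁) * βc d₁ / β 0) := by
          show ε * (σ (β 0) * βc c + β 0 * σ (βc c)) / β 0 = _
          rw [hβadd, map_add, show βc d₁ = β 0 from hone 0]
          field_simp
          ring
        rw [e1]
        exact add_mem (add_mem (g _) (neg_mem (g _))) (neg_mem (g _))
      · have h1 := congrArg Subtype.val h
        simp only [div_left_inj' hβ0] at h1
        exact Subtype.ext (mul_left_cancel₀ hR.eps_ne h1)
    have hc3 : Nat.card (Fin 2 → F₀) = Nat.card F₀ ^ 2 := by rw [Nat.card_fun, Nat.card_fin]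
    rw [hc3] at hker hprod
    have h1 : (Nat.card k₀ ^ 2) ^ 2 ≤ Nat.card T.range ^ 2 := by
      have hk : (Nat.card k₀ ^ 2) ^ 2 ≤ Nat.card F₀ ^ 2 := Nat.pow_le_pow_left hk₀ 2
      refine hk.trans (Nat.le_of_mul_le_mul_left ?_ (Nat.pow_pos Nat.card_pos : 0 < Nat.card T.ker ^ 2))
      calc Nat.card T.ker ^ 2 * Nat.card F₀ ^ 2 ≤ Nat.card F₀ ^ 2 * Nat.card F₀ ^ 2 := Nat.mul_le_mul_right _ hker
        _ = Nat.card T.ker ^ 2 * Nat.card T.range ^ 2 := by rw [← hprod]; ring
    exact ((Nat.pow_le_pow_iff_left two_ne_zero).1 h1).trans him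
  obtain ⟨k, ⟨m, hmM, hme, hmw, hmZ⟩, hk0, hksq⟩ := exists_borel_outside' K Λ hsub hw₀
    (by simpa [w₀] using mul_ne_zero hR.eps_ne hβ0) k₀
    (by
      rcases Nat.lt_or_ge (Nat.card k₀) 3 with hk | hk
      · have hk2 : Nat.card k₀ = 2 := le_antisymm (by omega) Finite.one_lt_card
        refine Or.inr ⟨?_, le_trans (by rw [hk2]; norm_num) hΛcard⟩
        haveI := Fintype.ofFinite k₀
        have h := Module.card_eq_pow_finrank (K := k₀) (V := F)
        rw [h, ← Nat.card_eq_fintype_card, hk2]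
        exact (Nat.even_pow' Module.finrank_pos.ne').2 even_two
      · exact Or.inl (le_trans (by norm_num) (le_trans (Nat.pow_le_pow_left hk 2) hΛcard)))
    hΛcard
  set γ := (k : Matrix (Fin 2) (Fin 2) F) 0 0
  rw [hk0, zero_smul, add_zero] at hme
  have hγfix : σ γ = γ := by
    have hdet : γ * (k : Matrix (Fin 2) (Fin 2) F) 1 1 = 1 := by
      have := k.det_coe
      rwa [det_fin_two, hk0, mul_zero, sub_zero] at this
    set k01 := (k : Matrix (Fin 2) (Fin 2) F) 0 1
    set k11 := (k : Matrix (Fin 2) (Fin 2) F) 1 1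
    have hγUF : m.1 e ∈ UF := by
      have := add_mem hme.1 (UF.smul_mem γ heUF)
      rwa [sub_add_cancel] at this
    have h1 : B (m.1 e) (m.1 w - k11 • w) = 0 := by
      refine hUFiso _ hγUF _ ?_
      have := add_mem hmw.1 (UF.smul_mem k01 heUF)
      rwa [show m.1 w - (k01 • e + k11 • w) + k01 • e = m.1 w - k11 • w by abel] at this
    have h2 : B (m.1 e - γ • e) w = 0 := hR.symm_zero hme.2
    rw [map_sub, map_smul, smul_eq_mul, isomGroup_apply, sub_eq_zero] at h1
    rw [map_sub, LinearMap.sub_apply, map_smulₛₗ, LinearMap.smul_apply, smul_eq_mul, sub_eq_zero] at h2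
    rw [h2] at h1
    have hew : B e w ≠ 0 := fun h => hβ0 (hR.symm_zero h)
    have h3 : k11 * σ γ = 1 := by
      refine mul_right_cancel₀ hew ?_
      rw [one_mul, mul_assoc]; exact h1.symm
    have hk11 : k11 ≠ 0 := left_ne_zero_of_mul_eq_one h3
    refine mul_left_cancel₀ hk11 ?_
    rw [h3, mul_comm, hdet]
  have hγF : γ * γ ∉ F₀ := fun h => hksq ⟨by rw [pow_two]; exact h, show σ (γ ^ 2) = γ ^ 2 by rw [map_pow, hγfix]⟩
  -- images of the members
  by_contra hno
  let P : Submodule F₀ F := Submodule.span F₀ (Set.range fun c : Fin 2 → F₀ => βc c * σ (βc c))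
  have hP2 : ∀ c, γ * γ * (βc c * σ (βc c)) ∈ P := by
    intro c
    set U := ((∑ i, c i • u i : V₀) : V) with hU
    set v := m.1 U with hv
    have hve : v = (βc c / β 0) • m.1 e + (U - (βc c / β 0) • e) := by
      rw [hv, ← hmZ _ (hzU c), map_sub, map_smul]; abel
    have hvUF : v ∈ UF := by
      rw [hve]
      refine add_mem (UF.smul_mem _ ?_) (hzU c).1
      have := add_mem hme.1 (UF.smul_mem γ heUF)
      rwa [sub_add_cancel] at this
    have hvw : B w v = γ * βc c := by
      have h1 : B w (m.1 e - γ • e) = 0 := hme.2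
      rw [map_sub, map_smul, sub_eq_zero] at h1
      rw [hve, map_add, map_smul, h1, show B w (U - (βc c / β 0) • e) = 0 from (hzU c).2, add_zero, smul_eq_mul,
        smul_eq_mul, hwe]
      field_simp
    have hvv : B v v = 0 := hUFiso v hvUF v hvUF
    -- `v` is good
    have hgood : ¬ IsHBad B V₀ v := by
      intro hvbad
      refine hno (exists_hasHS_of_perp hM hdim hvv ?_ hvbad ?_)
      · rw [hv, ← hR.conj_hTv _ (hUFiso U (hmemUF c) U (hmemUF c)) (map_one σ)]
        exact mul_mem (mul_mem hmM (hM _ (SetLike.coe_mem _) (hUFiso U (hmemUF c) U (hmemUF c)) 1 (one_mem _)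
          (map_one σ))) (inv_mem hmM)
      · let Φ : V₀ →ₗ[F₀] (Fin 2 → F₀) := LinearMap.pi fun i => hR.form₀ (u i)
        have hle : LinearMap.ker Φ ≤ LinearMap.ker (hPairing B V₀ v) := by
          intro z hz
          have hz' : ∀ i, B (u i : V) (z : V) = 0 := fun i => hR.form₀_eq_zero.1 (congrFun hz i)
          rw [LinearMap.mem_ker, hPairing_apply]
          suffices ∀ a ∈ UF, B a (z : V) = 0 from this v hvUF
          intro a ha
          induction ha using Submodule.span_induction with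
          | mem a ha => obtain ⟨i, rfl⟩ := ha; exact hz' i
          | zero => simp
          | add a b _ _ ha hb => simp [ha, hb]
          | smul s a _ ha => simp [ha]
        have h1 := Φ.finrank_range_add_finrank_ker
        have h2 : finrank F₀ (LinearMap.range Φ) ≤ 2 := (Submodule.finrank_le _).trans (by simp)
        have h3 := Submodule.finrank_mono hle
        omega
    simp only [IsHBad, not_exists, not_and, not_not] at hgood
    -- coordinates of `v`
    obtain ⟨b, hb⟩ := (Submodule.mem_span_range_iff_exists_fun F).1 hvUF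
    have hcc : ∀ i j, b i * σ (b j) ∈ F₀ := by
      have hf : ∀ i, ∃ y : V₀, B (y : V) (y : V) = 0 ∧ ∀ j, B (y : V) (u j : V) = if i = j then 1 else 0 := by
        intro i
        let L : List V₀ := ((Finset.univ.erase i).toList).map u
        have hmemL : ∀ j, j ≠ i → u j ∈ L := fun j hj => List.mem_map.2 ⟨j, by simp [hj], rfl⟩
        have hLiso : ∀ a ∈ L, B (a : V) (u i : V) = 0 := by
          intro a ha
          obtain ⟨j, -, rfl⟩ := List.mem_map.1 ha
          exact hiso j i
        have hnot : u i ∉ Submodule.span F₀ {x | x ∈ L} := by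
          intro hc
          have hle : Submodule.span F₀ {x | x ∈ L} ≤ Submodule.span F₀ (u '' {j | j ≠ i}) := Submodule.span_mono (by
            intro a ha
            obtain ⟨j, hj, rfl⟩ := List.mem_map.1 (show a ∈ L from ha)
            exact ⟨j, by simpa using hj, rfl⟩)
          have hli : LinearIndependent F₀ u := by
            rw [Fintype.linearIndependent_iff]
            intro d hd j
            exact congrFun (hind d (by rw [hd]; simp)) j
          exact hli.notMem_span_image (s := {j | j ≠ i}) (by simp) (hle hc)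
        obtain ⟨y, hyy, hiy, hyL⟩ := hR.exists_iso_partner (hiso i i) L hLiso hnot
        refine ⟨y, hyy, fun j => ?_⟩
        split_ifs with hij
        · subst hij; rw [← hR.symm, hiy, map_one]
        · exact hR.symm_zero (hyL _ (hmemL j (Ne.symm hij)))
      intro i j
      obtain ⟨y, hyy, hy⟩ := hf i
      obtain ⟨y', hyy', hy'⟩ := hf j
      have := hgood y y' hyy hyy'
      rw [← hb] at this
      simpa [-Fin.sum_univ_two, map_sum, hy, hy'] using this
    have hsum : γ * γ * (βc c * σ (βc c)) = ∑ i, ∑ j, b i * σ (b j) * (β i * σ (β j)) := by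
      have h1 : γ * βc c = ∑ i, b i * β i := by rw [← hvw, ← hb]; simp [map_sum, hβ]
      calc γ * γ * (βc c * σ (βc c)) = γ * βc c * σ (γ * βc c) := by rw [map_mul, hγfix]; ring
        _ = (∑ i, b i * β i) * σ (∑ j, b j * β j) := by rw [h1]
        _ = _ := by
          rw [map_sum, Finset.sum_mul_sum]
          exact Finset.sum_congr rfl fun i _ => Finset.sum_congr rfl fun j _ => by rw [map_mul]; ring
    have hsm : ∀ {a x : F}, a ∈ F₀ → x ∈ P → a * x ∈ P := fun {a x} ha hx => P.smul_mem ⟨a, ha⟩ hx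
    have hsq : ∀ i, β i * σ (β i) ∈ P := fun i => Submodule.subset_span ⟨Pi.single i 1, by simp only [hone]⟩
    have hcross : ∀ (d : F₀) (i j : Fin 2),
        (d : F) * (β i * σ (β j)) + σ (d : F) * (β j * σ (β i)) ∈ P := by
      intro d i j
      have h1 : βc (d • Pi.single i 1 + Pi.single j 1) = (d : F) * β i + β j := by rw [hβadd, hβsmul, hone, hone]
      have h2 : ((d : F) * β i + β j) * σ ((d : F) * β i + β j) ∈ P :=
        Submodule.subset_span ⟨d • Pi.single i 1 + Pi.single j 1, by simp only [h1]⟩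
      have h3 := sub_mem (sub_mem h2 (hsm (mul_mem d.2 (hR.stable _ d.2)) (hsq i))) (hsq j)
      convert h3 using 1
      rw [map_add, map_mul]
      ring
    rw [hsum]
    simp only [Fin.sum_univ_two]
    have ecr : ∀ i j, b i * σ (b j) * (β i * σ (β j)) + b j * σ (b i) * (β j * σ (β i)) ∈ P := fun i j => by
      have := hcross ⟨_, hcc i j⟩ i j
      rwa [show σ (b i * σ (b j)) = b j * σ (b i) by rw [map_mul, hR.invol]; ring] at this
    have d : ∀ i, b i * σ (b i) * (β i * σ (β i)) ∈ P := fun i => hsm (hcc i i) (hsq i)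
    have := add_mem (add_mem (d 0) (d 1)) (ecr 0 1)
    convert this using 1
    ring
  let R : Subring F :=
    { carrier := {c | ∀ b ∈ P, c * b ∈ P}
      one_mem' := fun b hb => by rwa [one_mul]
      zero_mem' := fun b _ => by rw [zero_mul]; exact zero_mem P
      add_mem' := fun {a c} ha hc b hb => by rw [add_mul]; exact add_mem (ha b hb) (hc b hb)
      neg_mem' := fun {a} ha b hb => by rw [neg_mul]; exact neg_mem (ha b hb)
      mul_mem' := fun {a c} ha hc b hb => by rw [mul_assoc]; exact ha _ (hc b hb) }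
  have hR' : ∀ c, c ∈ R := eq_top_of_prime_degree hr hcard R
    (fun c hc b hb => P.smul_mem ⟨c, hc⟩ hb)
    (show γ * γ ∈ R from fun b hb => by
      induction hb using Submodule.span_induction with
      | mem b hb => obtain ⟨c, rfl⟩ := hb; exact hP2 c
      | zero => rw [mul_zero]; exact zero_mem P
      | add a b _ _ ha hb => rw [mul_add]; exact add_mem ha hb
      | smul t a _ ha =>
        rw [Subfield.smul_def, smul_eq_mul, mul_left_comm]
        exact P.smul_mem t ha) hγF
  have hb0 : β 0 * σ (β 0) ∈ P := Submodule.subset_span ⟨Pi.single 0 1, by simp only [hone]⟩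
  have htop : P = ⊤ := eq_top_iff.2 fun x _ => by
    have := hR' (x / (β 0 * σ (β 0))) _ hb0
    rwa [div_mul_cancel₀ _ (mul_ne_zero hβ0 ((map_ne_zero σ).2 hβ0))] at this
  -- but it has dimension at most `4`
  let q : Fin 2 × Fin 2 → F := fun p => β p.1 * σ (β p.2)
  have hPle : P ≤ Submodule.span F₀ (Set.range q) := by
    refine Submodule.span_le.2 ?_
    rintro _ ⟨c, rfl⟩
    simp only [βc, map_sum, Finset.sum_mul_sum]
    refine Submodule.sum_mem _ fun i _ => Submodule.sum_mem _ fun j _ => ?_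
    have e : (c i : F) * β i * σ ((c j : F) * β j) =
        (⟨(c i : F) * σ (c j : F), mul_mem (c i).2 (hR.stable _ (c j).2)⟩ : F₀) • (β i * σ (β j)) := by
      rw [Subfield.smul_def, smul_eq_mul, map_mul]; ring
    rw [e]
    exact Submodule.smul_mem _ _ (Submodule.subset_span ⟨(i, j), rfl⟩)
  have h9 : finrank F₀ (Submodule.span F₀ (Set.range q)) ≤ 4 :=
    (finrank_range_le_card (R := F₀) q).trans (by decide)
  have h := Submodule.finrank_mono hPle
  rw [htop, finrank_top] at h
  have hfr := Module.natCard_eq_pow_finrank (K := F₀) (V := F)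
  rw [Nat.card_eq_fintype_card, hcard] at hfr
  have := Nat.pow_right_injective Finite.one_lt_card hfr
  omega

/-- Above the rational special unitary group. -/
theorem herm_top {r : ℕ} (hr : r.Prime) (hcard : Fintype.card F = Nat.card F₀ ^ r) (hn : 4 ≤ finrank F V)
    {g : isomGroup B} (hg : g ∈ M) (hnot : ¬ ∃ s : F, s ≠ 0 ∧ ∀ f ∈ V₀, s • g.1 f ∈ V₀) : sIsom B ≤ M := by
  suffices hbad : ∃ e : V₀, B (e : V) (e : V) = 0 ∧ IsHBad B V₀ (g.1 (e : V)) by
    obtain ⟨e, hee, he⟩ := hbad
    obtain ⟨μ, a, v, hμ, ha, hav, h⟩ := exists_hasHS_of_bad hM hdim hr hcard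
      (show B (g.1 (e : V)) (g.1 (e : V)) = 0 by rw [isomGroup_apply, hee])
      (show hR.hTv (g.1 (e : V)) 1 ∈ M by
        rw [← hR.conj_hTv _ hee (map_one σ)]
        exact mul_mem (mul_mem hg (hM _ e.2 hee 1 (one_mem _) (map_one σ))) (inv_mem hg)) he
    exact sIsom_le_of_hasHS hM hdim hr hcard hn hμ h ha hav
  by_contra hgood₀
  simp only [IsHBad, not_exists, not_and, not_not] at hgood₀
  have hspan : ∀ y : V₀, y ∈ Submodule.span F₀ (IsHFrame.isoPerp B V₀ []) := fun y =>
    hR.mem_span_iso [] (by simp; omega) (by simp)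
  have hgood : ∀ e : V₀, B (e : V) (e : V) = 0 → ∀ y u : V₀,
      B (y : V) (g.1 (e : V)) * σ (B (u : V) (g.1 (e : V))) ∈ F₀ := by
    intro e hee y u
    induction hspan y using Submodule.span_induction with
    | mem y hy =>
      induction hspan u using Submodule.span_induction with
      | mem u hu => exact hgood₀ e hee y u hy.1 hu.1
      | zero => simp
      | add a b _ _ ha hb => simpa [mul_add] using add_mem ha hb
      | smul c a _ ha =>
        simp only [SetLike.val_smul, coe_smul_eq, map_smulₛₗ, LinearMap.smul_apply, smul_eq_mul, map_mul, hR.invol]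
        rw [mul_left_comm]
        exact mul_mem c.2 ha
    | zero => simp
    | add a b _ _ ha hb => simpa [add_mul] using add_mem ha hb
    | smul c a _ ha =>
      simp only [SetLike.val_smul, coe_smul_eq, map_smulₛₗ, LinearMap.smul_apply, smul_eq_mul, mul_assoc]
      exact mul_mem (hR.stable _ c.2) ha
  have hk : ∀ f : V₀, f ≠ 0 → ∃ y : V₀, B (y : V) (g.1 (f : V)) ≠ 0 := by
    intro f hf
    by_contra hc
    push Not at hc
    exact hf (Subtype.ext (g.1.map_eq_zero_iff.1 (hR.sep fun u hu => hc ⟨u, hu⟩)))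
  obtain ⟨e₀, -, he₀, hee₀⟩ := hR.exists_iso_in ⊤ (by rw [finrank_top]; omega)
  obtain ⟨y₀, hy₀⟩ := hk e₀ he₀
  set w := g.1 (e₀ : V) with hwdef
  set k := B (y₀ : V) w with hkdef
  have main : ∀ f : V₀, B (f : V) (f : V) = 0 → σ k • g.1 (f : V) ∈ V₀ := by
    intro f hff
    refine hR.mem_of_pairing fun z hz => ?_
    rw [map_smulₛₗ, LinearMap.smul_apply, hR.invol, ← hR.symm z, smul_eq_mul]
    by_cases hdep : f ∈ Submodule.span F₀ {e₀}
    · obtain ⟨c, rfl⟩ := Submodule.mem_span_singleton.1 hdep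
      rw [SetLike.val_smul, coe_smul_eq, map_smul, map_smul, smul_eq_mul, map_mul, mul_left_comm]
      exact mul_mem (hR.stable _ c.2) (hgood e₀ hee₀ y₀ ⟨z, hz⟩)
    set w' := g.1 (f : V) with hw'def
    have hf0 : f ≠ 0 := fun e => hdep (by rw [e]; exact zero_mem _)
    obtain ⟨y₁, hy₁⟩ := hk _ hf0
    obtain ⟨α, hαF, hα0, hsum⟩ : ∃ α : F, α ∈ F₀ ∧ α ≠ 0 ∧
        B ((e₀ : V) + α • (f : V)) ((e₀ : V) + α • (f : V)) = 0 := by
      by_cases hef : B (e₀ : V) (f : V) = 0
      · refine ⟨1, one_mem _, one_ne_zero, ?_⟩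
        simp [hee₀, hff, hef, hR.symm_zero hef]
      · refine ⟨ε / B (e₀ : V) (f : V), div_mem hR.eps_mem (hR.form _ e₀.2 _ f.2), div_ne_zero hR.eps_ne hef, ?_⟩
        rw [hR.herm.add_self, hR.herm.smul_self, hee₀, hff, map_smul, smul_eq_mul, div_mul_cancel₀ _ hef, hR.eps_tr]
        ring
    have hcross : ∀ a b : V₀, B (a : V) w * σ (B (b : V) w') * σ α + B (a : V) w' * σ (B (b : V) w) * α ∈ F₀ := by
      intro a b
      have h := hgood (e₀ + (⟨α, hαF⟩ : F₀) • f) (by simpa [coe_smul_eq] using hsum) a b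
      rw [Submodule.coe_add, SetLike.val_smul, coe_smul_eq, map_add, map_smul, map_add, map_smul, map_add, map_smul,
        ← hwdef, ← hw'def, smul_eq_mul, smul_eq_mul, map_add, map_mul] at h
      have h1 := sub_mem (sub_mem h (hgood e₀ hee₀ a b))
        (mul_mem (mul_mem hαF (hR.stable _ hαF)) (hgood f hff a b))
      rw [← hwdef, ← hw'def] at h1
      convert h1 using 1
      ring
    obtain ⟨y, hy', hy⟩ : ∃ y : V₀, B (y : V) w' = 0 ∧ B (y : V) w ≠ 0 := by
      by_contra hc
      push Not at hc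
      set c := B (y₁ : V) w / B (y₁ : V) w'
      have hww : w - c • w' = 0 := hR.sep fun u hu => by
        have hd : σ (B u w' / B (y₁ : V) w') ∈ F₀ := by
          apply hR.stable
          have h1 := hgood f hff ⟨u, hu⟩ y₁
          have h2 := hgood f hff y₁ y₁
          rw [← hw'def] at h1 h2
          have e : B u w' / B (y₁ : V) w' =
              B u w' * σ (B (y₁ : V) w') / (B (y₁ : V) w' * σ (B (y₁ : V) w')) := by
            rw [mul_div_mul_right _ _ ((map_ne_zero σ).2 hy₁)]
          rw [e]; exact div_mem h1 h2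
        have h3 := hc (⟨u, hu⟩ - (⟨_, hd⟩ : F₀) • y₁) (by
          rw [Submodule.coe_sub, SetLike.val_smul, coe_smul_eq, map_sub, map_smulₛₗ, LinearMap.sub_apply,
            LinearMap.smul_apply, smul_eq_mul, hR.invol, div_mul_cancel₀ _ hy₁, sub_self])
        rw [Submodule.coe_sub, SetLike.val_smul, coe_smul_eq, map_sub, map_smulₛₗ, LinearMap.sub_apply,
          LinearMap.smul_apply, smul_eq_mul, hR.invol, sub_eq_zero] at h3
        rw [map_sub, map_smul, h3, smul_eq_mul, sub_eq_zero]
        simp only [c]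
        field_simp
      rw [hwdef, hw'def, ← map_smul, ← map_sub, g.1.map_eq_zero_iff, sub_eq_zero] at hww
      have hc0 : c ≠ 0 := fun e => he₀ (Subtype.ext (by rw [hww, e, zero_smul]; rfl))
      obtain ⟨p, hp⟩ : ∃ p : V₀, B (p : V) (f : V) ≠ 0 := by
        by_contra hc'
        push Not at hc'
        exact hf0 (Subtype.ext (hR.sep fun u hu => hc' ⟨u, hu⟩))
      have hcF : c ∈ F₀ := by
        have e1 : c = B (p : V) (e₀ : V) / B (p : V) (f : V) := by
          rw [hww, map_smul, smul_eq_mul, mul_div_cancel_right₀ _ hp]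
        rw [e1]; exact div_mem (hR.form _ p.2 _ e₀.2) (hR.form _ p.2 _ f.2)
      refine hdep (Submodule.mem_span_singleton.2 ⟨(⟨c, hcF⟩ : F₀)⁻¹, Subtype.ext ?_⟩)
      show (c⁻¹ : F) • (e₀ : V) = f
      rw [hww, smul_smul, inv_mul_cancel₀ hc0, one_smul]
    have h2 := hcross y ⟨z, hz⟩
    rw [hy', zero_mul, zero_mul, add_zero] at h2
    have h3 := div_mem h2 (hR.stable _ hαF)
    rw [mul_div_cancel_right₀ _ ((map_ne_zero σ).2 hα0)] at h3
    have hσy : σ (B (y : V) w) ≠ 0 := (map_ne_zero σ).2 hy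
    have e : k * σ (B z w') = k * σ (B (y : V) w) * (B (y : V) w * σ (B z w')) /
        (B (y : V) w * σ (B (y : V) w)) := by
      field_simp
    rw [e]
    exact div_mem (mul_mem (hgood e₀ hee₀ y₀ y) h3) (hgood e₀ hee₀ y y)
  refine hnot ⟨σ k, (map_ne_zero σ).2 hy₀, fun f hf => ?_⟩
  suffices ∀ x ∈ Submodule.span F₀ (IsHFrame.isoPerp B V₀ []), σ k • g.1 (x : V) ∈ V₀ from this ⟨f, hf⟩ (hspan _)
  intro x hx
  induction hx using Submodule.span_induction with
  | mem x hx => exact main x hx.1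
  | zero => simp
  | add a b _ _ ha hb => simpa [smul_add] using add_mem ha hb
  | smul c a _ ha =>
    rw [SetLike.val_smul, coe_smul_eq, map_smul, smul_comm]
    exact smul_mem' c.2 ha

end CfsgLib.Classical.SubfieldMax
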