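import Cfsg.Agent.Lib.Classical.Dickson.Generation
import Cfsg.Agent.Lib.Classical.SubfieldMax.Main

/-!
# A rational unipotent subgroup and one irrational transvection generate `SL₂` (odd characteristic)
-/

set_option autoImplicit false
set_option linter.unusedSectionVars false
set_option linter.style.haveILetI false
set_option backward.isDefEq.respectTransparency false

namespace CfsgLib.Classical.SubfieldMax

open Matrix
open scoped MatrixGroups
open CfsgLib.Classical.Dickson (lowT upT closure_transvections)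

variable {F : Type*} [Field F] [Fintype F] {F₀ : Subfield F}

/-- The lower unitriangular matrix. -/
def lowS (c : F) : SL(2, F) := ⟨!![1, 0; c, 1], by simp⟩

theorem coe_lowS (c : F) : (lowS c : Matrix (Fin 2) (Fin 2) F) = !![1, 0; c, 1] := rfl

theorem coe_upS (c : F) : (upT c : Matrix (Fin 2) (Fin 2) F) = !![1, c; 0, 1] := rfl

/-- The diagonal matrix. -/
def diS (a : F) (ha : a ≠ 0) : SL(2, F) := ⟨!![a, 0; 0, a⁻¹], by simp [ha]⟩

/-- All lower unitriangular matrices are reached. -/
theorem lowS_mem (h2 : (2 : F) ≠ 0) {r : ℕ} (hr : r.Prime) (hcard : Fintype.card F = Nat.card F₀ ^ r)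
    (K : Subgroup SL(2, F)) (hlow : ∀ c ∈ F₀, lowS c ∈ K) {t : F} (ht : upT t ∈ K) (ht0 : t ∉ F₀)
    (hex : t ^ 2 ≠ -1) : ∀ s, lowS s ∈ K := by
  classical
  have ht' : t ≠ 0 := fun e => ht0 (e ▸ zero_mem _)
  set L := Subfield.closure ({t} : Set F) with hL
  have htL : t ∈ L := Subfield.subset_closure rfl
  haveI : Fintype L := Fintype.ofFinite L
  haveI : DecidableEq L := Classical.decEq L
  obtain ⟨p, hp'⟩ := CharP.exists L
  obtain ⟨k, hp, -⟩ := FiniteField.card L p
  haveI : Fact p.Prime := ⟨hp⟩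
  have hgen : Subfield.closure ({(⟨t, htL⟩ : L)} : Set L) = ⊤ := by
    apply SetLike.ext'
    refine Set.eq_univ_of_forall fun x => ?_
    have hx : (x : F) ∈ (Subfield.closure ({(⟨t, htL⟩ : L)} : Set L)).map L.subtype := by
      rw [L.subtype.map_field_closure, Set.image_singleton]
      exact x.2
    obtain ⟨y, hy, hyx⟩ := hx
    exact (Subtype.ext hyx : y = x) ▸ hy
  rcases closure_transvections p (F := L) (fun h => h2 (congrArg Subtype.val h)) (l := ⟨t, htL⟩)
      (fun h => ht' (congrArg Subtype.val h)) hgen with ⟨htop, -⟩ | ⟨-, h, -⟩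
  swap
  · exact absurd (congrArg Subtype.val h) hex
  let φ : SL(2, L) →* SL(2, F) := SpecialLinearGroup.map L.subtype
  have hLK : ∀ g : SL(2, L), φ g ∈ K := by
    intro g
    have hg : g ∈ Subgroup.closure ({lowT, upT ⟨t, htL⟩} : Set SL(2, L)) := htop ▸ Subgroup.mem_top g
    induction hg using Subgroup.closure_induction with
    | mem x hx =>
      rcases hx with rfl | rfl
      · rw [show φ lowT = lowS 1 by
          refine Subtype.ext ?_; ext i j; fin_cases i <;> fin_cases j <;> simp [φ, lowS, lowT]]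
        exact hlow 1 (one_mem _)
      · rw [show φ (upT ⟨t, htL⟩) = upT t by
          refine Subtype.ext ?_; ext i j; fin_cases i <;> fin_cases j <;> simp [φ, upT]]
        exact ht
    | one => rw [map_one]; exact K.one_mem
    | mul x y _ _ hx hy => rw [map_mul]; exact K.mul_mem hx hy
    | inv x _ hx => rw [map_inv]; exact K.inv_mem hx
  have hLlow : ∀ s ∈ L, lowS s ∈ K := fun s hs => by
    convert hLK (lowS ⟨s, hs⟩) using 1
    refine Subtype.ext ?_; ext i j; fin_cases i <;> fin_cases j <;> simp [φ, lowS]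
  have hLup : ∀ s ∈ L, upT s ∈ K := fun s hs => by
    convert hLK (upT ⟨s, hs⟩) using 1
    refine Subtype.ext ?_; ext i j; fin_cases i <;> fin_cases j <;> simp [φ, upT]
  set w : SL(2, F) := upT 1 * lowS (-1) * upT 1 with hw
  have hwK : w ∈ K := K.mul_mem (K.mul_mem (hLup 1 (one_mem _)) (hLlow _ (neg_mem (one_mem _))))
    (hLup 1 (one_mem _))
  have hwm : (w : Matrix (Fin 2) (Fin 2) F) = !![0, 1; -1, 0] := by
    simp [hw, coe_lowS, coe_upS, Matrix.mul_fin_two]
  have hconj : ∀ s : F, w * lowS s * w⁻¹ = upT (-s) := fun s => by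
    rw [mul_inv_eq_iff_eq_mul]
    refine Subtype.ext ?_
    simp [hwm, coe_lowS, coe_upS, Matrix.mul_fin_two]
  have hup : ∀ c ∈ F₀, upT c ∈ K := fun c hc => by
    rw [← neg_neg c, ← hconj]
    exact K.mul_mem (K.mul_mem hwK (hlow _ (neg_mem hc))) (K.inv_mem hwK)
  have hdi : ∀ (A : Subfield F), (∀ a ∈ A, lowS a ∈ K) → (∀ a ∈ A, upT a ∈ K) →
      ∀ (a : F) (ha : a ≠ 0), a ∈ A → diS a ha ∈ K := by
    intro A h1 h2' a ha haA
    have e : diS a ha * w = upT a * lowS (-a⁻¹) * upT a := by
      refine Subtype.ext ?_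
      simp [diS, hwm, coe_lowS, coe_upS, Matrix.mul_fin_two, ha]
    rw [eq_mul_inv_of_mul_eq e]
    exact K.mul_mem (K.mul_mem (K.mul_mem (h2' a haA) (h1 _ (neg_mem (inv_mem haA)))) (h2' a haA)) (K.inv_mem hwK)
  have hadd : ∀ a b : F, lowS a * lowS b = lowS (a + b) := fun a b => by
    refine Subtype.ext ?_; simp [coe_lowS, Matrix.mul_fin_two]
  have hneg : ∀ a : F, (lowS a)⁻¹ = lowS (-a) := fun a => by
    apply inv_eq_of_mul_eq_one_right
    rw [hadd, add_neg_cancel]
    refine Subtype.ext ?_; simp [coe_lowS, Matrix.one_fin_two]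
  let R : AddSubgroup F :=
    { carrier := {s | lowS s ∈ K}
      add_mem' := fun {a b} ha hb => by show _ ∈ K; rw [← hadd]; exact K.mul_mem ha hb
      zero_mem' := hlow 0 (zero_mem _)
      neg_mem' := fun {a} ha => by show _ ∈ K; rw [← hneg]; exact K.inv_mem ha }
  let S : Subring F :=
    { carrier := {k | ∀ s ∈ R, k * s ∈ R}
      one_mem' := fun s hs => by rwa [one_mul]
      zero_mem' := fun s _ => by rw [zero_mul]; exact zero_mem R
      add_mem' := fun {a b} ha hb s hs => by rw [add_mul]; exact add_mem (ha s hs) (hb s hs)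
      neg_mem' := fun {a} ha s hs => by rw [neg_mul]; exact neg_mem (ha s hs)
      mul_mem' := fun {a b} ha hb s hs => by rw [mul_assoc]; exact ha _ (hb s hs) }
  have hA : ∀ (A : Subfield F), (∀ a ∈ A, lowS a ∈ K) → (∀ a ∈ A, upT a ∈ K) → ∀ x ∈ A, x ∈ S := by
    intro A h1 h2' x hx
    have hsq : ∀ a ∈ A, a * a ∈ S := fun a ha => by
      by_cases ha0 : a = 0
      · rw [ha0, mul_zero]; exact zero_mem S
      intro s hs
      have hm := hdi A h1 h2' a ha0 ha
      have e : (diS a ha0)⁻¹ * lowS s * diS a ha0 = lowS (a * a * s) := by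
        rw [mul_assoc, inv_mul_eq_iff_eq_mul]
        refine Subtype.ext ?_
        simp [diS, coe_lowS, Matrix.mul_fin_two]
        field_simp
      show lowS _ ∈ K
      rw [← e]
      exact K.mul_mem (K.mul_mem (K.inv_mem hm) hs) hm
    have e : x = ((x + 1) / 2) * ((x + 1) / 2) - ((x - 1) / 2) * ((x - 1) / 2) := by field_simp; ring
    rw [e]
    have h2A : (2 : F) ∈ A := by rw [← one_add_one_eq_two]; exact add_mem (one_mem _) (one_mem _)
    exact sub_mem (hsq _ (div_mem (add_mem hx (one_mem _)) h2A)) (hsq _ (div_mem (sub_mem hx (one_mem _)) h2A))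
  intro s
  have h := eq_top_of_prime_degree hr hcard S (hA F₀ hlow hup) (hA L hLlow hLup t htL) ht0 s
  have := h 1 (hlow 1 (one_mem _))
  rwa [mul_one] at this

end CfsgLib.Classical.SubfieldMax
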