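import Cfsg.Agent.Lib.Classical.SubfieldMax.SympReduce
import Cfsg.Agent.Lib.Classical.SubfieldMax.SL2Sub

/-!
# Symplectic groups over a subfield of prime index, odd characteristic, small dimension
-/

set_option autoImplicit false
set_option linter.unusedSectionVars false
set_option backward.isDefEq.respectTransparency false

open Module Matrix
open scoped MatrixGroups

namespace CfsgLib.Classical.SubfieldMax

open CfsgLib.Classical.Dickson (upT)

variable {F : Type*} [Field F] [Fintype F] {V : Type*} [AddCommGroup V] [Module F V] [FiniteDimensional F V]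
  {F₀ : Subfield F} {B : V →ₗ[F] V →ₗ[F] F} {V₀ : Submodule F₀ V}
  {hR : IsFrame B V₀} {M : Subgroup (isomGroup B)}

/-- One full rational axis gives everything. -/
theorem top_of_axis (hM : RatTV hR M) {e : V} (he : e ∈ V₀) (he0 : e ≠ 0) (he' : IsAxis hR.isAlt M e) : M = ⊤ := by
  have hA := hR.isAlt
  have hS : ∀ {x y : V}, B x y = 0 → B y x = 0 := fun h => hR.symm_zero h
  have hzero : ∀ v : V, IsAxis hA M v → IsAxis hA M 0 := fun v hv => by simpa using hv.smul 0
  have hstep : ∀ y ∈ V₀, ∀ z ∈ V₀, IsAxis hA M y → B y z ≠ 0 → IsAxis hA M z := by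
    intro y hy z hz hay hyz
    have h1 := hay.map (hM (z - y) (sub_mem hz hy) (B y z)⁻¹ (inv_mem (hR.form _ hy _ hz)))
    rwa [tv_move hA y z hyz] at h1
  have hrat : ∀ z ∈ V₀, IsAxis hA M z := by
    intro z hz
    by_cases hz0 : z = 0
    · rw [hz0]; exact hzero e he'
    by_cases hez : B e z = 0
    · obtain ⟨m, hm, hem, hzm⟩ : ∃ m ∈ V₀, B e m ≠ 0 ∧ B z m ≠ 0 := by
        obtain ⟨m₂, hm₂, hm₂'⟩ : ∃ m ∈ V₀, B z m ≠ 0 := by
          by_contra hn
          push Not at hn
          exact hz0 (hR.sep fun y hy => hS (hn y hy))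
        obtain ⟨m₁, hm₁, hm₁'⟩ : ∃ m ∈ V₀, B e m ≠ 0 := by
          by_contra hn
          push Not at hn
          exact he0 (hR.sep fun y hy => hS (hn y hy))
        by_cases h1 : B z m₁ = 0
        · by_cases h3 : B e m₂ = 0
          · exact ⟨m₁ + m₂, add_mem hm₁ hm₂, by simp [h3, hm₁'], by simp [h1, hm₂']⟩
          · exact ⟨m₂, hm₂, h3, hm₂'⟩
        · exact ⟨m₁, hm₁, hm₁', h1⟩
      exact hstep m hm z hz (hstep e he m hm he' hem) fun h => hzm (hS h)
    · exact hstep e he z hz he' hez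
  have hgen : ∀ v : V, ∀ t : F, ∀ y, IsAxis hA M y → IsAxis hA M (y + t • v) := by
    intro v
    have hv : v ∈ Submodule.span F (V₀ : Set V) := by rw [hR.spans]; exact Submodule.mem_top
    induction hv using Submodule.span_induction with
    | mem v hv =>
      intro t y hy
      by_cases hyv : B y v = 0
      swap
      · exact (hrat v hv).add hy hyv t
      by_cases hdep : ∃ μ : F, y = μ • v
      · obtain ⟨μ, rfl⟩ := hdep
        rw [← add_smul]
        exact (hrat v hv).smul _
      obtain ⟨z, hz, hvz, hyz⟩ : ∃ z ∈ V₀, B v z = 0 ∧ B y z ≠ 0 := by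
        by_contra hn
        push Not at hn
        refine hdep ?_
        obtain ⟨m, hm, hvm⟩ : ∃ m ∈ V₀, B v m ≠ 0 := by
          by_contra hn'
          push Not at hn'
          refine hdep ⟨0, ?_⟩
          rw [zero_smul]
          exact hR.sep fun s hs => hS (hn s hs (hn' s hs))
        refine ⟨B y m / B v m, sub_eq_zero.1 (hR.sep fun s hs => ?_)⟩
        have hs' := hn (s - (B v s / B v m) • m)
          (sub_mem hs (smul_mem' (div_mem (hR.form _ hv _ hs) (hR.form _ hv _ hm)) hm))
          (by rw [map_sub, map_smul, smul_eq_mul, div_mul_cancel₀ _ hvm, sub_self])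
        rw [map_sub, map_smul, smul_eq_mul, sub_eq_zero] at hs'
        rw [map_sub, map_smul, smul_eq_mul, hR.swap s y, hR.swap s v, hs']
        field_simp
        ring
      have h1 := (hrat z hz).add hy hyz t
      have h3 := (hrat _ (sub_mem hv hz)).add h1 (by
        simp only [map_add, map_sub, map_smul, LinearMap.add_apply, LinearMap.smul_apply, hyv, hA z, hS hvz,
          smul_eq_mul, mul_zero, sub_zero, add_zero, zero_sub, neg_ne_zero]
        exact hyz) t
      rwa [add_assoc, ← smul_add, add_sub_cancel] at h3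
    | zero => intro t y hy; rwa [smul_zero, add_zero]
    | add a b _ _ ha hb => intro t y hy; rw [smul_add, ← add_assoc]; exact hb t _ (ha t y hy)
    | smul c a _ ha => intro t y hy; rw [smul_smul]; exact ha _ y hy
  refine eq_top_of_isAxis hA hR.nondeg fun v => ?_
  have := hgen v 1 0 (hzero e he')
  rwa [zero_add, one_smul] at this

/-- The action of `SL₂` on a hyperbolic plane. -/
theorem exists_planeHom (hA : B.IsAlt) {e f : V} (hef : B e f = 1) :
    ∃ φ : SL(2, F) →* isomGroup B, (∀ c, φ (lowS c) = tv hA f c) ∧ ∀ b, φ (upT b) = tv hA e (-b) := by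
  classical
  have hfe : B f e = -1 := by rw [alt_swap hA, hef]
  let lin : SL(2, F) → V →ₗ[F] V := fun k => LinearMap.id +
    (((k : Matrix (Fin 2) (Fin 2) F) 0 0 - 1) • B.flip f + (k : Matrix (Fin 2) (Fin 2) F) 0 1 • B e).smulRight e +
    ((k : Matrix (Fin 2) (Fin 2) F) 1 0 • B.flip f + ((k : Matrix (Fin 2) (Fin 2) F) 1 1 - 1) • B e).smulRight f
  have hlin : ∀ k z, lin k z = z +
      (((k : Matrix (Fin 2) (Fin 2) F) 0 0 - 1) * B z f + (k : Matrix (Fin 2) (Fin 2) F) 0 1 * B e z) • e +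
      ((k : Matrix (Fin 2) (Fin 2) F) 1 0 * B z f + ((k : Matrix (Fin 2) (Fin 2) F) 1 1 - 1) * B e z) • f :=
    fun k z => rfl
  have hmul : ∀ k l z, lin (k * l) z = lin k (lin l z) := by
    intro k l z
    have hkl : ∀ i j, ((k * l : SL(2, F)) : Matrix (Fin 2) (Fin 2) F) i j =
        (k : Matrix (Fin 2) (Fin 2) F) i 0 * (l : Matrix (Fin 2) (Fin 2) F) 0 j +
          (k : Matrix (Fin 2) (Fin 2) F) i 1 * (l : Matrix (Fin 2) (Fin 2) F) 1 j := fun i j => by
      show ((k : Matrix (Fin 2) (Fin 2) F) * (l : Matrix (Fin 2) (Fin 2) F)) i j = _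
      rw [Matrix.mul_apply, Fin.sum_univ_two]
    simp only [hlin, hkl, map_add, map_smul,
      LinearMap.add_apply, LinearMap.smul_apply, smul_eq_mul, hA e, hA f, hef]
    module
  have hone : ∀ z, lin 1 z = z := fun z => by simp [hlin]
  let eqv : SL(2, F) → (V ≃ₗ[F] V) := fun k =>
    LinearEquiv.ofLinearMap (lin k) (lin k⁻¹)
      (LinearMap.ext fun z => by show lin k (lin k⁻¹ z) = z; rw [← hmul, mul_inv_cancel, hone])
      (LinearMap.ext fun z => by show lin k⁻¹ (lin k z) = z; rw [← hmul, inv_mul_cancel, hone])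
  have hiso : ∀ k, eqv k ∈ isomGroup B := fun k x y => by
    show B (lin k x) (lin k y) = B x y
    have hdet := k.2
    rw [Matrix.det_fin_two] at hdet
    simp only [hlin, map_add, map_smul, LinearMap.add_apply, LinearMap.smul_apply, smul_eq_mul, hA e, hA f, hef,
      hfe, alt_swap hA x e, alt_swap hA f y]
    linear_combination (B x f * B e y - B y f * B e x) * hdet
  refine ⟨{ toFun := fun k => ⟨eqv k, hiso k⟩, map_one' := ?_, map_mul' := ?_ }, fun c => ?_, fun b => ?_⟩
  · exact Subtype.ext (LinearEquiv.ext hone)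
  · exact fun k l => Subtype.ext (LinearEquiv.ext fun z => hmul k l z)
  · refine Subtype.ext (LinearEquiv.ext fun z => ?_)
    show lin (lowS c) z = _
    rw [hlin, tv_apply, coe_lowS]
    simp
  · refine Subtype.ext (LinearEquiv.ext fun z => ?_)
    show lin (upT b) z = _
    rw [hlin, tv_apply, coe_upS, alt_swap hA z e]
    simp

/-- A perpendicular bad configuration in index two gives a full rational axis. -/
theorem exists_axis_two (hM : RatTV hR M) (h2 : (2 : F) ≠ 0) (hdim : 6 ≤ finrank F₀ V₀)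
    (hcard : Fintype.card F = Nat.card F₀ ^ 2) {w : V} (hw : tv hR.isAlt w 1 ∈ M) (hbad : IsBad B V₀ w) :
    ∃ a ∈ V₀, a ≠ 0 ∧ IsAxis hR.isAlt M a := by
  classical
  have hA := hR.isAlt
  have hN : 3 ≤ finrank F₀ (LinearMap.ker (pairing B V₀ w)) := by
    have h1 := (pairing B V₀ w).finrank_range_add_finrank_ker
    have h3 : finrank F₀ (LinearMap.range (pairing B V₀ w)) ≤ 2 := by
      refine (Submodule.finrank_le _).trans ?_
      have h := Module.natCard_eq_pow_finrank (K := F₀) (V := F)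
      rw [Nat.card_eq_fintype_card, hcard] at h
      exact (Nat.pow_right_injective Finite.one_lt_card h).ge
    omega
  obtain ⟨μ, a, v, hμ, ha0, hav, hsh⟩ := exists_hasSh_of_perp hM (by omega) hw hbad hN
  have hbv : B (a : V) (v : V) = 0 := hsh.1
  obtain ⟨v', hv', hL⟩ := exists_partner_avoid hM [v] (by simp) (v := a) (by
    rw [show {x | x ∈ [v]} = ({v} : Set V₀) by ext; simp]
    intro hc
    obtain ⟨c, hc⟩ := Submodule.mem_span_singleton.1 hc
    have hc0 : c ≠ 0 := fun e => ha0 (by rw [← hc, e, zero_smul])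
    refine hav ?_
    rw [show {y | y ∈ [a]} = ({a} : Set V₀) by ext; simp]
    exact Submodule.mem_span_singleton.2 ⟨c⁻¹, by rw [← hc, inv_smul_smul₀ hc0]⟩)
  -- `v'` pairs with `a`; the pair `(v, v')` is orthogonal
  have hvv' : B (v : V) (v' : V) = 0 := hL v (by simp)
  obtain ⟨m, hm, hmL⟩ := hR.exists_perp_outside [a, v, v'] (Submodule.span F₀ {y | y ∈ [a, v]}) (by
    have := finrank_span_le hM [a, v]; simp at this ⊢; omega)
  have hma : B (a : V) (m : V) = 0 := hmL a (by simp)
  have hmv : B (v : V) (m : V) = 0 := hmL v (by simp)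
  have hmv' : B (v' : V) (m : V) = 0 := hmL v' (by simp)
  have h1 : HasSh hR M μ a m := hsh.move hM hma hmv fun hc => by
    rw [show {y | y ∈ [a, m]} = ({a, m} : Set V₀) by ext; simp] at hc
    obtain ⟨p, q, hpq⟩ := Submodule.mem_span_pair.1 hc
    by_cases hq : q = 0
    · refine hav ?_
      rw [show {y | y ∈ [a]} = ({a} : Set V₀) by ext; simp]
      exact Submodule.mem_span_singleton.2 ⟨p, by simpa [hq] using hpq⟩
    · refine hm ?_
      rw [show {y | y ∈ [a, v]} = ({a, v} : Set V₀) by ext; simp]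
      refine Submodule.mem_span_pair.2 ⟨-(p / q), q⁻¹, ?_⟩
      rw [← hpq]
      match_scalars <;> field_simp
      ring
  have hmav : m ∉ Submodule.span F₀ {y | y ∈ [a, v]} := hm
  -- shear coefficients on `(a, k v)`
  have hak : ∀ k : F₀, HasSh hR M μ a (k • v) := fun k => by
    refine h1.move hM (by rw [SetLike.val_smul, coe_smul_eq, map_smul, hbv, smul_zero])
      (by rw [SetLike.val_smul, coe_smul_eq, map_smul, hR.symm_zero hmv, smul_zero]) fun hc => hmav ?_
    rw [show {y | y ∈ [a, k • v]} = ({a, k • v} : Set V₀) by ext; simp] at hc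
    rw [show {y | y ∈ [a, v]} = ({a, v} : Set V₀) by ext; simp]
    obtain ⟨p, q, hpq⟩ := Submodule.mem_span_pair.1 hc
    exact Submodule.mem_span_pair.2 ⟨p, q * k, by rw [← hpq, smul_smul]⟩
  have h3 : HasSh hR M μ v m := hsh.symm.move hM hmv hma fun hc => by
    rw [show {y | y ∈ [v, m]} = ({v, m} : Set V₀) by ext; simp] at hc
    obtain ⟨p, q, hpq⟩ := Submodule.mem_span_pair.1 hc
    by_cases hq : q = 0
    · have hp : p ≠ 0 := fun e => ha0 (by rw [← hpq, e, hq]; simp)
      refine hav ?_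
      rw [show {y | y ∈ [a]} = ({a} : Set V₀) by ext; simp]
      exact Submodule.mem_span_singleton.2 ⟨p⁻¹, by rw [← hpq, hq, zero_smul, add_zero, inv_smul_smul₀ hp]⟩
    · refine hm ?_
      rw [show {y | y ∈ [a, v]} = ({a, v} : Set V₀) by ext; simp]
      refine Submodule.mem_span_pair.2 ⟨q⁻¹, -(p / q), ?_⟩
      rw [← hpq]
      match_scalars <;> field_simp
      ring
  have hvv : HasSh hR M μ v v' := h3.move hM hvv' (hR.symm_zero hmv') fun hc => by
    rw [show {y | y ∈ [v, v']} = ({v, v'} : Set V₀) by ext; simp] at hc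
    obtain ⟨p, q, hpq⟩ := Submodule.mem_span_pair.1 hc
    have e := congrArg (fun x : V₀ => B (a : V) (x : V)) hpq
    simp only [Submodule.coe_add, SetLike.val_smul, coe_smul_eq, map_add, map_smul, hbv, hv', hma, smul_eq_mul,
      mul_zero, mul_one, zero_add, ZeroMemClass.coe_eq_zero] at e
    refine hm ?_
    rw [show {y | y ∈ [a, v]} = ({a, v} : Set V₀) by ext; simp]
    rw [← hpq, e, zero_smul, add_zero]
    exact Submodule.smul_mem _ _ (Submodule.subset_span (by simp))
  -- a shift of `μ` with irrational square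
  obtain ⟨s, hs, hsa, hsv⟩ : ∃ s : F, s * s ∉ F₀ ∧ (∀ k : F₀, HasSh hR M s a (k • v)) ∧ HasSh hR M s v v' := by
    by_cases h : μ * μ ∈ F₀
    · have hplus : ∀ {u x : V₀}, HasSh hR M μ u x → HasSh hR M (μ + 1) u x := fun {u x} hx => ⟨hx.1, by
        rw [sh_add hA hx.1]
        exact mul_mem hx.2 (hM.sh_mem u.2 x.2 (one_mem _))⟩
      refine ⟨μ + 1, fun h' => hμ ?_, fun k => hplus (hak k), hplus hvv⟩
      have e : μ = ((μ + 1) * (μ + 1) - μ * μ - 1) / 2 := by field_simp; ring
      rw [e]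
      exact div_mem (sub_mem (sub_mem h' h) (one_mem _)) (by rw [← one_add_one_eq_two]; exact add_mem (one_mem _) (one_mem _))
    · exact ⟨μ, h, hak, hvv⟩
  have hv0 : v ≠ 0 := fun e => hav (e ▸ Submodule.zero_mem _)
  refine ⟨v, v.2, fun e => hv0 (Subtype.ext e), ?_⟩
  have htv : ∀ k : F₀, tv hA (v : V) ((k : F) * (s * s)) ∈ M := by
    intro k
    have e2 : (sh hA (v : V) (v' : V) s).1 (a : V) = (a : V) + s • (v : V) := by
      rw [sh_apply hA hvv', hbv, hv']
      simp
    have h4 := mul_mem (mul_mem hsv.2 (hM _ a.2 k k.2)) (inv_mem hsv.2)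
    rw [conj_tv, e2, tv_add hA hbv] at h4
    have h5 : sh hA (a : V) (v : V) ((k : F) * s) ∈ M := by
      have := (hsa k).2
      have hk : B (a : V) ((k : F) • (v : V)) = 0 := by rw [map_smul, hbv, smul_zero]
      rwa [SetLike.val_smul, coe_smul_eq, ← sh_smul hA hk, smul_smul, sh_smul hA hbv, mul_comm] at this
    have h6 := (Subgroup.mul_mem_cancel_left M (mul_mem (hM _ a.2 k k.2) h5)).1 h4
    rwa [mul_assoc] at h6
  intro c
  -- `F = F₀ + F₀ s²`
  obtain ⟨⟨p, q⟩, hpq⟩ : ∃ pq : F₀ × F₀, (pq.1 : F) + (pq.2 : F) * (s * s) = c := by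
    refine (Nat.bijective_iff_injective_and_card (fun pq : F₀ × F₀ => (pq.1 : F) + (pq.2 : F) * (s * s))).2 ⟨?_, ?_⟩
      |>.2 c
    · rintro ⟨p, q⟩ ⟨p', q'⟩ h
      simp only at h
      by_cases hqq : q = q'
      · subst hqq; simpa using h
      refine absurd ?_ hs
      have e : s * s = ((p' : F) - p) / ((q : F) - q') := by
        rw [eq_div_iff (sub_ne_zero.2 fun e => hqq (Subtype.ext e))]
        linear_combination h
      rw [e]
      exact div_mem (sub_mem p'.2 p.2) (sub_mem q.2 q'.2)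
    · rw [Nat.card_prod, Nat.card_eq_fintype_card (α := F), hcard]; ring
  rw [← hpq, ← tv_mul]
  exact mul_mem (hM _ v.2 p p.2) (htv q)

/-- Above the rational symplectic group, odd characteristic, dimension at least six. -/
theorem symp_top_small (hM : RatTV hR M) (h2 : (2 : F) ≠ 0) (hdim : 6 ≤ finrank F₀ V₀) {r : ℕ} (hr : r.Prime)
    (hcard : Fintype.card F = Nat.card F₀ ^ r) {g : isomGroup B} (hg : g ∈ M)
    (hnot : ¬ ∃ s : F, s ≠ 0 ∧ ∀ f ∈ V₀, s • g.1 f ∈ V₀) : M = ⊤ := by
  classical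
  have hA := hR.isAlt
  obtain ⟨e₀, hbad⟩ := exists_isBad hR (by omega) hnot
  set w := g.1 (e₀ : V) with hwdef
  have hw : tv hA w 1 ∈ M := by
    rw [hwdef, ← conj_tv]; exact mul_mem (mul_mem hg (hM _ e₀.2 1 (one_mem _))) (inv_mem hg)
  by_cases hr2 : r = 2
  · subst hr2
    obtain ⟨a, ha, ha0, hax⟩ := exists_axis_two hM h2 hdim hcard hw hbad
    exact top_of_axis hM ha ha0 hax
  obtain ⟨u, hu⟩ : ∃ u : V₀, B (u : V) w * B (u : V) w ∉ F₀ := by
    by_contra hall
    push Not at hall
    obtain ⟨y, u, hyu⟩ := hbad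
    refine hyu ?_
    have h3 := sub_mem (sub_mem (hall (y + u)) (hall y)) (hall u)
    have e : B (y : V) w * B (u : V) w = ((B ((y + u : V₀) : V) w * B ((y + u : V₀) : V) w) -
        B (y : V) w * B (y : V) w - B (u : V) w * B (u : V) w) / 2 := by
      rw [Submodule.coe_add, map_add, LinearMap.add_apply]; field_simp; ring
    rw [e]
    exact div_mem h3 (by rw [← one_add_one_eq_two]; exact add_mem (one_mem _) (one_mem _))
  set β := B w (u : V) with hβdef
  have hβu : B (u : V) w = -β := hR.swap _ _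
  rw [hβu, neg_mul_neg] at hu
  have hβ : β ≠ 0 := fun e => hu (by rw [e, mul_zero]; exact zero_mem _)
  set t := -(β * β) with ht
  have ht0 : t ∉ F₀ := fun h => hu (by simpa [ht] using neg_mem h)
  have hex : t ^ 2 ≠ -1 := by
    intro h
    let S : Subring F :=
      { carrier := {x | ∃ p q : F₀, x = (p : F) + q * t}
        one_mem' := ⟨1, 0, by simp⟩
        zero_mem' := ⟨0, 0, by simp⟩
        add_mem' := by rintro _ _ ⟨p, q, rfl⟩ ⟨p', q', rfl⟩; exact ⟨p + p', q + q', by push_cast; ring⟩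
        neg_mem' := by rintro _ ⟨p, q, rfl⟩; exact ⟨-p, -q, by push_cast; ring⟩
        mul_mem' := by
          rintro _ _ ⟨p, q, rfl⟩ ⟨p', q', rfl⟩
          exact ⟨p * p' - q * q', p * q' + q * p', by push_cast; linear_combination ((q : F) * q') * h⟩ }
    have htop : ∀ x, ∃ p q : F₀, x = (p : F) + q * t := fun x =>
      eq_top_of_prime_degree hr hcard S (fun x hx => ⟨⟨x, hx⟩, 0, by simp⟩) (show t ∈ S from ⟨0, 1, by simp⟩) ht0 x
    have hle : Nat.card F ≤ Nat.card F₀ ^ 2 := by
      rw [pow_two, ← Nat.card_prod]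
      exact Nat.card_le_card_of_surjective (fun pq : F₀ × F₀ => (pq.1 : F) + pq.2 * t)
        fun x => by obtain ⟨p, q, e⟩ := htop x; exact ⟨⟨p, q⟩, e.symm⟩
    rw [Nat.card_eq_fintype_card (α := F), hcard] at hle
    have := (Nat.pow_le_pow_iff_right (Finite.one_lt_card (α := F₀))).1 hle
    have := hr.two_le
    omega
  obtain ⟨φ, hφl, hφu⟩ := exists_planeHom hA (e := β⁻¹ • w) (f := (u : V))
    (by rw [map_smul, LinearMap.smul_apply, smul_eq_mul, ← hβdef, inv_mul_cancel₀ hβ])
  have hup : upT t ∈ M.comap φ := by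
    rw [Subgroup.mem_comap, hφu, tv_smul]
    convert hw using 2
    rw [ht, neg_neg]; field_simp
  have hall := lowS_mem h2 hr hcard (M.comap φ) (fun c hc => by
    rw [Subgroup.mem_comap, hφl]; exact hM _ u.2 c hc) hup ht0 hex
  refine top_of_axis hM u.2 (fun e => hβ (by rw [hβdef, e, map_zero])) fun c => ?_
  have := hall c
  rwa [Subgroup.mem_comap, hφl] at this

end CfsgLib.Classical.SubfieldMax
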