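import Cfsg.Agent.Lib.Classical.HermMax
import Cfsg.Agent.Lib.Classical.SubfieldMax.SympFrame

/-!
# Rational structures for Hermitian forms
-/

set_option autoImplicit false
set_option linter.unusedSectionVars false

open Module

namespace CfsgLib.Classical.SubfieldMax

variable {F : Type*} [Field F] [Fintype F] {V : Type*} [AddCommGroup V] [Module F V] [FiniteDimensional F V]
  {σ : F →+* F} {F₀ : Subfield F}

/-- A rational structure for a Hermitian form, with a trace-zero scalar of the subfield. -/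
structure IsHFrame (B : V →ₛₗ[σ] V →ₗ[F] F) (V₀ : Submodule F₀ V) (ε : F) : Prop where
  herm : IsHermitian B
  nondeg : B.SeparatingRight
  stable : ∀ c ∈ F₀, σ c ∈ F₀
  twisted : ∃ c ∈ F₀, σ c ≠ c
  eps_mem : ε ∈ F₀
  eps_ne : ε ≠ 0
  eps_tr : σ ε = -ε
  form : ∀ u ∈ V₀, ∀ v ∈ V₀, B u v ∈ F₀
  spans : Submodule.span F (V₀ : Set V) = ⊤

variable {B : V →ₛₗ[σ] V →ₗ[F] F} {V₀ : Submodule F₀ V} {ε : F}

/-- The coefficient vanishes on the pair in both orders. -/
theorem herm_symm_zero (h : IsHermitian B) {x y : V} (e : B x y = 0) : B y x = 0 := h.isRefl _ _ e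

namespace IsHFrame

variable (hR : IsHFrame B V₀ ε)
include hR

theorem sep {x : V} (h : ∀ u ∈ V₀, B u x = 0) : x = 0 := by
  refine hR.nondeg x fun y => ?_
  have hy : y ∈ Submodule.span F (V₀ : Set V) := hR.spans ▸ Submodule.mem_top
  induction hy using Submodule.span_induction with
  | mem u hu => exact h u hu
  | zero => simp
  | add a b _ _ ha hb => simp [ha, hb]
  | smul c a _ ha => simp [ha]

theorem symm (x y : V) : σ (B x y) = B y x := hR.herm.symm x y

theorem symm_zero {x y : V} (e : B x y = 0) : B y x = 0 := hR.herm.isRefl _ _ e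

theorem invol (a : F) : σ (σ a) = a := hR.herm.conj.invol a

/-- The conjugation of the subfield. -/
def sig₀ : F₀ →+* F₀ := σ.restrict F₀ F₀ hR.stable

theorem sig₀_coe (c : F₀) : ((hR.sig₀ c : F₀) : F) = σ (c : F) := rfl

theorem conj₀ : IsConjugation hR.sig₀ := by
  refine ⟨fun a => Subtype.ext (hR.invol a.1), fun e => ?_⟩
  obtain ⟨c, hc, hne⟩ := hR.twisted
  exact hne (congrArg Subtype.val (RingHom.congr_fun e ⟨c, hc⟩))

/-- The restricted form. -/
def form₀ : V₀ →ₛₗ[hR.sig₀] V₀ →ₗ[F₀] F₀ :=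
  LinearMap.mk₂'ₛₗ hR.sig₀ (RingHom.id F₀) (fun a b => ⟨B (a : V) (b : V), hR.form _ a.2 _ b.2⟩)
    (fun a b c => Subtype.ext (by simp)) (fun c a b => Subtype.ext (by simp [coe_smul_eq, sig₀_coe]))
    (fun a b c => Subtype.ext (by simp)) (fun c a b => Subtype.ext (by simp [coe_smul_eq]))

theorem form₀_coe (a b : V₀) : ((hR.form₀ a b : F₀) : F) = B (a : V) (b : V) := rfl

theorem form₀_eq_zero {a b : V₀} : hR.form₀ a b = 0 ↔ B (a : V) (b : V) = 0 :=
  ⟨fun h => by rw [← hR.form₀_coe, h]; rfl, fun h => Subtype.ext h⟩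

theorem herm₀ : IsHermitian hR.form₀ := ⟨hR.conj₀, fun x y => Subtype.ext (hR.symm _ _)⟩

theorem nondeg₀ : hR.form₀.SeparatingRight := fun y hy =>
  Subtype.ext (hR.sep fun u hu => hR.form₀_eq_zero.1 (hy ⟨u, hu⟩))

theorem exists_of_dual (f : V₀ →ₗ[F₀] F₀) : ∃ z : V₀, ∀ a : V₀, B (z : V) (a : V) = (f a : F) := by
  obtain ⟨z, hz⟩ := hR.herm₀.exists_form_eq hR.nondeg₀ f
  exact ⟨z, fun a => by rw [← hR.form₀_coe, hz]⟩

theorem mem_of_pairing {x : V} (h : ∀ u ∈ V₀, B x u ∈ F₀) : x ∈ V₀ := by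
  obtain ⟨z, hz⟩ := hR.exists_of_dual
    { toFun := fun a => ⟨B x (a : V), h _ a.2⟩
      map_add' := fun a b => Subtype.ext (by simp)
      map_smul' := fun c a => Subtype.ext (by simp [coe_smul_eq]) }
  have hzx : x - (z : V) = 0 := hR.sep fun u hu => by
    apply hR.symm_zero
    rw [map_sub, LinearMap.sub_apply, hz ⟨u, hu⟩]; simp
  rw [sub_eq_zero.1 hzx]
  exact z.2

theorem finrank_le : finrank F V ≤ finrank F₀ V₀ := by
  let b := Module.finBasis F₀ V₀
  let g : Fin (finrank F₀ V₀) → V := fun i => (b i : V)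
  have hsub : (V₀ : Set V) ⊆ Submodule.span F (Set.range g) := by
    intro u hu
    have e := congrArg Subtype.val (b.sum_repr ⟨u, hu⟩)
    simp only [Submodule.coe_sum, SetLike.val_smul] at e
    rw [← e]
    exact Submodule.sum_mem _ fun i _ => Submodule.smul_mem _ _ (Submodule.subset_span ⟨i, rfl⟩)
  have htop : Submodule.span F (Set.range g) = ⊤ := eq_top_iff.2 (hR.spans ▸ Submodule.span_le.2 hsub)
  have := finrank_range_le_card (R := F) g
  rw [Set.finrank, htop, finrank_top, Fintype.card_fin] at this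
  exact this

/-- Isotropic rational vectors orthogonal to a short list. -/
def isoPerp (B : V →ₛₗ[σ] V →ₗ[F] F) (V₀ : Submodule F₀ V) (L : List V₀) : Set V₀ :=
  {y | B (y : V) (y : V) = 0 ∧ ∀ a ∈ L, B (a : V) (y : V) = 0}

theorem mem_span_iso (L : List V₀) (h : 2 * L.length + 2 ≤ finrank F₀ V₀) {x : V₀}
    (hx : ∀ a ∈ L, B (a : V) (x : V) = 0) : x ∈ Submodule.span F₀ (isoPerp B V₀ L) := by
  classical
  set W := Submodule.span F₀ {z | z ∈ L}
  set P := CfsgLib.Classical.perp hR.form₀ W with hP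
  have hmemP : ∀ z, z ∈ P ↔ ∀ a ∈ L, B (a : V) (z : V) = 0 := fun z => by
    rw [hP, mem_perp_span]
    exact ⟨fun h a ha => hR.form₀_eq_zero.1 (h a ha), fun h a ha => hR.form₀_eq_zero.2 (h a ha)⟩
  set R := P ⊓ CfsgLib.Classical.perp hR.form₀ P
  obtain ⟨C', hC'⟩ := Submodule.exists_isCompl R
  set C := P ⊓ C'
  have hsup : R ⊔ C = P := by
    have h1 : (R ⊔ C') ⊓ P = R ⊔ C' ⊓ P := sup_inf_assoc_of_le C' (inf_le_left : R ≤ P)
    rw [hC'.sup_eq_top, top_inf_eq, inf_comm] at h1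
    exact h1.symm
  have hC : NondegOn hR.form₀ C := nondegOn_iff.2 fun y hy hy' => by
    have hyR : y ∈ R := by
      refine ⟨hy.1, mem_perp.2 fun p hp => ?_⟩
      obtain ⟨r, hr, c, hc, rfl⟩ := Submodule.mem_sup.1 (hsup.symm ▸ hp : p ∈ R ⊔ C)
      rw [map_add, LinearMap.add_apply, hy' c hc, add_zero]
      exact hR.herm₀.isRefl _ _ (mem_perp.1 hr.2 y hy.1)
    exact Submodule.disjoint_def.1 hC'.disjoint y hyR hy.2
  have hRd : finrank F₀ R ≤ L.length := by
    refine le_trans (Submodule.finrank_mono (inf_le_right.trans_eq (hR.herm₀.perp_perp_herm hR.nondeg₀ W))) ?_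
    rw [show W = Submodule.span F₀ (L.toFinset : Set V₀) by simp [W]]
    exact (finrank_span_finset_le_card _).trans L.toFinset_card_le
  have hPd : finrank F₀ V₀ ≤ finrank F₀ P + L.length := by
    have h1 := finrank_le_finrank_perp_add hR.form₀ W
    have h2 : finrank F₀ W ≤ L.length := by
      rw [show W = Submodule.span F₀ (L.toFinset : Set V₀) by simp [W]]
      exact (finrank_span_finset_le_card _).trans L.toFinset_card_le
    rw [← hP] at h1
    omega
  have hCd : 2 ≤ finrank F₀ C := by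
    have h1 := Submodule.finrank_add_le_finrank_add_finrank R C
    rw [hsup] at h1
    omega
  have hle : R ⊔ C ≤ Submodule.span F₀ (isoPerp B V₀ L) := by
    refine sup_le (fun r hr => Submodule.subset_span ⟨?_, (hmemP r).1 hr.1⟩)
      ((hR.herm₀.le_span_isotropic hC hCd).trans (Submodule.span_mono ?_))
    · exact hR.form₀_eq_zero.1 (mem_perp.1 hr.2 r hr.1)
    · exact fun y hy => ⟨hR.form₀_eq_zero.1 hy.2, (hmemP y).1 hy.1.1⟩
  exact hle (hsup.symm ▸ (hmemP x).2 hx)

theorem exists_iso_outside (L : List V₀) (S : Submodule F₀ V₀) (h : 2 * L.length + 2 ≤ finrank F₀ V₀)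
    (hS : finrank F₀ S + L.length < finrank F₀ V₀) :
    ∃ y : V₀, y ∉ S ∧ B (y : V) (y : V) = 0 ∧ ∀ a ∈ L, B (a : V) (y : V) = 0 := by
  classical
  by_contra hc
  push Not at hc
  set P := CfsgLib.Classical.perp hR.form₀ (Submodule.span F₀ {z | z ∈ L})
  have hle : P ≤ S := by
    intro x hx
    rw [mem_perp_span] at hx
    refine (Submodule.span_le (p := S)).2 ?_ (hR.mem_span_iso L h fun a ha => hR.form₀_eq_zero.1 (hx a ha))
    intro y hy
    by_contra hyS
    obtain ⟨a, ha, hne⟩ := hc y hyS hy.1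
    exact hne (hy.2 a ha)
  have h1 := finrank_le_finrank_perp_add hR.form₀ (Submodule.span F₀ {z | z ∈ L})
  change finrank F₀ V₀ ≤ finrank F₀ P + _ at h1
  have h2 := Submodule.finrank_mono hle
  have h3 : finrank F₀ (Submodule.span F₀ {z | z ∈ L}) ≤ L.length := by
    rw [show {z | z ∈ L} = (L.toFinset : Set V₀) by ext; simp]
    exact (finrank_span_finset_le_card _).trans L.toFinset_card_le
  omega

/-- A rational subspace of dimension at least two has a nonzero isotropic vector. -/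
theorem exists_iso_in (P : Submodule F₀ V₀) (hP : 2 ≤ finrank F₀ P) :
    ∃ a ∈ P, a ≠ 0 ∧ B (a : V) (a : V) = 0 := by
  by_cases h : NondegOn hR.form₀ P
  · obtain ⟨a, ha, ha0, haa⟩ := hR.herm₀.exists_isotropic h hP
    exact ⟨a, ha, ha0, hR.form₀_eq_zero.1 haa⟩
  · rw [nondegOn_iff] at h
    push Not at h
    obtain ⟨a, ha, hperp, ha0⟩ := h
    exact ⟨a, ha, ha0, hR.form₀_eq_zero.1 (hperp a ha)⟩

/-- An isotropic vector outside a small subspace, orthogonal to a short list. -/
theorem exists_iso_outside' (L : List V₀) (S : Submodule F₀ V₀)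
    (h : L.length + finrank F₀ S + 2 ≤ finrank F₀ V₀) :
    ∃ y : V₀, y ∉ S ∧ B (y : V) (y : V) = 0 ∧ ∀ a ∈ L, B (a : V) (y : V) = 0 := by
  classical
  set W := Submodule.span F₀ {z | z ∈ L}
  set P := CfsgLib.Classical.perp hR.form₀ W with hP
  obtain ⟨C, hC⟩ := Submodule.exists_isCompl S
  have hd : 2 ≤ finrank F₀ ↥(P ⊓ C) := by
    have h1 := finrank_le_finrank_perp_add hR.form₀ W
    rw [← hP] at h1
    have h2 : finrank F₀ W ≤ L.length := by
      rw [show W = Submodule.span F₀ (L.toFinset : Set V₀) by simp [W]]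
      exact (finrank_span_finset_le_card _).trans L.toFinset_card_le
    have h3 := Submodule.finrank_sup_add_finrank_inf_eq P C
    have h4 := Submodule.finrank_le (P ⊔ C)
    have h5 := Submodule.finrank_add_eq_of_isCompl hC
    omega
  obtain ⟨y, ⟨hyP, hyC⟩, hy0, hyy⟩ := hR.exists_iso_in _ hd
  exact ⟨y, fun e => hy0 (Submodule.disjoint_def.1 hC.disjoint y e hyC), hyy,
    fun a ha => hR.form₀_eq_zero.1 (mem_perp.1 hyP a (Submodule.subset_span ha))⟩

/-- An isotropic partner. -/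
theorem exists_iso_partner {v : V₀} (hvv : B (v : V) (v : V) = 0) (L : List V₀)
    (hL : ∀ a ∈ L, B (a : V) (v : V) = 0) (hv : v ∉ Submodule.span F₀ {x | x ∈ L}) :
    ∃ v' : V₀, B (v' : V) (v' : V) = 0 ∧ B (v : V) (v' : V) = 1 ∧ ∀ a ∈ L, B (a : V) (v' : V) = 0 := by
  obtain ⟨f, hfv, hfL⟩ := Submodule.exists_dual_map_eq_bot_of_notMem hv inferInstance
  obtain ⟨z, hz⟩ := hR.exists_of_dual ((f v)⁻¹ • f)
  have hzv : B (z : V) (v : V) = 1 := by
    rw [hz, LinearMap.smul_apply, smul_eq_mul, inv_mul_cancel₀ hfv]; rfl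
  have hvz : B (v : V) (z : V) = 1 := by rw [← hR.symm, hzv, map_one]
  have hzL : ∀ a ∈ L, B (a : V) (z : V) = 0 := fun a ha => by
    apply hR.symm_zero
    rw [hz, LinearMap.smul_apply, show f a = 0 from (Submodule.eq_bot_iff _).1 hfL _
      (Submodule.mem_map_of_mem (Submodule.subset_span ha)), smul_zero]
    rfl
  obtain ⟨c, hc⟩ := hR.conj₀.exists_trace_eq (a := -hR.form₀ z z) (by rw [map_neg, hR.herm₀.self_fixed])
  have hc' : (c : F) + σ (c : F) = -B (z : V) (z : V) := by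
    simpa [hR.sig₀_coe, hR.form₀_coe] using congrArg (Subtype.val : F₀ → F) hc
  refine ⟨z + c • v, ?_, ?_, fun a ha => ?_⟩
  · simp only [Submodule.coe_add, SetLike.val_smul, coe_smul_eq, map_add, map_smul, map_smulₛₗ, LinearMap.add_apply,
      LinearMap.smul_apply, smul_eq_mul, hzv, hvz, hvv, RingHom.id_apply]
    linear_combination hc'
  · simp [coe_smul_eq, hvz, hvv]
  · simp [coe_smul_eq, hzL a ha, hL a ha]

/-! ### Root elements -/

/-- The transvection `z ↦ z + ε t B v z • v`. -/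
noncomputable def hTv (v : V) (t : F) : isomGroup B :=
  haveI : Decidable (B v v = 0 ∧ σ t = t) := _root_.Classical.dec _
  if hc : B v v = 0 ∧ σ t = t then
    (hR.herm.exists_uTv hR.nondeg (v := v) (c := ε * t) hc.1
      (by rw [map_mul, hR.eps_tr, hc.2]; ring)).choose
  else 1

theorem hTv_isUTv {v : V} {t : F} (hv : B v v = 0) (ht : σ t = t) : IsUTv (hR.hTv v t) v (ε * t) := by
  rw [hTv, dif_pos ⟨hv, ht⟩]
  exact (hR.herm.exists_uTv hR.nondeg (v := v) (c := ε * t) hv (by rw [map_mul, hR.eps_tr, ht]; ring)).choose_spec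

theorem hTv_apply {v : V} {t : F} (hv : B v v = 0) (ht : σ t = t) (z : V) :
    (hR.hTv v t).1 z = z + (ε * t * B v z) • v := (hR.hTv_isUTv hv ht).2.2 z

theorem eq_hTv {g : isomGroup B} {v : V} {c : F} (hg : IsUTv g v c) :
    σ (c / ε) = c / ε ∧ g = hR.hTv v (c / ε) := by
  have hfix : σ (c / ε) = c / ε := by
    rw [map_div₀, hR.eps_tr, eq_neg_of_add_eq_zero_right hg.2.1, neg_div_neg_eq]
  refine ⟨hfix, Subtype.ext (LinearEquiv.ext fun z => ?_)⟩
  rw [hg.2.2, hR.hTv_apply hg.1 hfix, mul_div_cancel₀ _ hR.eps_ne]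

theorem hTv_mul {v : V} (hv : B v v = 0) {s t : F} (hs : σ s = s) (ht : σ t = t) :
    hR.hTv v s * hR.hTv v t = hR.hTv v (s + t) := by
  refine Subtype.ext (LinearEquiv.ext fun z => ?_)
  rw [Subgroup.coe_mul, LinearEquiv.mul_apply, hR.hTv_apply hv hs, hR.hTv_apply hv ht,
    hR.hTv_apply hv (by rw [map_add, hs, ht]), map_add, map_smul, hv, smul_zero, add_zero]
  module

theorem hTv_zero (v : V) : hR.hTv v 0 = 1 := by
  by_cases hv : B v v = 0
  · exact Subtype.ext (LinearEquiv.ext fun z => by rw [hR.hTv_apply hv (map_zero σ)]; simp)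
  · rw [hTv, dif_neg fun h => hv h.1]

theorem hTv_inv {v : V} (hv : B v v = 0) {t : F} (ht : σ t = t) : (hR.hTv v t)⁻¹ = hR.hTv v (-t) :=
  inv_eq_of_mul_eq_one_right (by rw [hR.hTv_mul hv ht (by rw [map_neg, ht]), add_neg_cancel, hR.hTv_zero])

theorem conj_hTv (g : isomGroup B) {v : V} (hv : B v v = 0) {t : F} (ht : σ t = t) :
    g * hR.hTv v t * g⁻¹ = hR.hTv (g.1 v) t := by
  have h1 := (hR.hTv_isUTv hv ht).conj g
  refine Subtype.ext (LinearEquiv.ext fun z => ?_)
  rw [h1.2.2, hR.hTv_apply h1.1 ht]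

/-- The short root element `z ↦ z + ε s B v z • u + ε σ s B u z • v`. -/
noncomputable def hS (u v : V) (s : F) : isomGroup B :=
  hR.hTv (u + σ s • v) 1 * (hR.hTv u (-1) * hR.hTv v (-(s * σ s)))

theorem hS_apply {u v : V} (hu : B u u = 0) (hv : B v v = 0) (huv : B u v = 0) (s : F) (z : V) :
    (hR.hS u v s).1 z = z + (ε * s * B v z) • u + (ε * σ s * B u z) • v := by
  have hvu := hR.symm_zero huv
  have h1 : B (u + σ s • v) (u + σ s • v) = 0 := by simp [hu, hv, huv, hvu]
  have h2 : σ (-(s * σ s)) = -(s * σ s) := by rw [map_neg, hR.herm.conj.norm_fixed]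
  rw [hS, Subgroup.coe_mul, Subgroup.coe_mul, LinearEquiv.mul_apply, LinearEquiv.mul_apply,
    hR.hTv_apply h1 (map_one σ), hR.hTv_apply hu (by rw [map_neg, map_one]), hR.hTv_apply hv h2]
  simp only [map_add, map_smul, map_smulₛₗ, LinearMap.add_apply, LinearMap.smul_apply, smul_eq_mul, hu, hv, huv, hvu,
    hR.invol]
  module

theorem conj_hS (g : isomGroup B) {u v : V} (hu : B u u = 0) (hv : B v v = 0) (huv : B u v = 0) (s : F) :
    g * hR.hS u v s * g⁻¹ = hR.hS (g.1 u) (g.1 v) s := by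
  have h1 : B (u + σ s • v) (u + σ s • v) = 0 := by simp [hu, hv, huv, hR.symm_zero huv]
  have h2 : σ (-(s * σ s)) = -(s * σ s) := by rw [map_neg, hR.herm.conj.norm_fixed]
  rw [hS, hS, ← map_smul, ← map_add, ← hR.conj_hTv g h1 (map_one σ),
    ← hR.conj_hTv g hu (by rw [map_neg, map_one]), ← hR.conj_hTv g hv h2]
  group

theorem hS_swap {u v : V} (hu : B u u = 0) (hv : B v v = 0) (huv : B u v = 0) (s : F) :
    hR.hS v u s = hR.hS u v (σ s) := by
  refine Subtype.ext (LinearEquiv.ext fun z => ?_)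
  rw [hR.hS_apply hv hu (hR.symm_zero huv), hR.hS_apply hu hv huv, hR.invol]
  abel

theorem hS_smul {u v : V} (hu : B u u = 0) (hv : B v v = 0) (huv : B u v = 0) (s a : F) :
    hR.hS u (a • v) s = hR.hS u v (s * σ a) := by
  refine Subtype.ext (LinearEquiv.ext fun z => ?_)
  rw [hR.hS_apply hu (by simp [hv]) (by simp [huv]), hR.hS_apply hu hv huv]
  simp only [map_smulₛₗ, LinearMap.smul_apply, smul_eq_mul, map_mul, hR.invol, smul_smul]
  module

theorem hS_add {u v : V} (hu : B u u = 0) (hv : B v v = 0) (huv : B u v = 0) (s t : F) :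
    hR.hS u v (s + t) = hR.hS u v s * hR.hS u v t := by
  refine Subtype.ext (LinearEquiv.ext fun z => ?_)
  have hvu := hR.symm_zero huv
  simp only [Subgroup.coe_mul, LinearEquiv.mul_apply, hR.hS_apply hu hv huv, map_add, map_smul,
    LinearMap.add_apply, LinearMap.smul_apply, smul_eq_mul, hu, hv, huv, hvu]
  module

theorem hS_zero {u v : V} (hu : B u u = 0) (hv : B v v = 0) (huv : B u v = 0) : hR.hS u v 0 = 1 :=
  Subtype.ext (LinearEquiv.ext fun z => by rw [hR.hS_apply hu hv huv]; simp)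

theorem hS_neg {u v : V} (hu : B u u = 0) (hv : B v v = 0) (huv : B u v = 0) (s : F) :
    hR.hS u v (-s) = (hR.hS u v s)⁻¹ :=
  eq_inv_of_mul_eq_one_left (by rw [← hR.hS_add hu hv huv, neg_add_cancel, hR.hS_zero hu hv huv])

/-- A transvection at a combination of orthogonal isotropic vectors. -/
theorem hTv_add {u v : V} (hu : B u u = 0) (hv : B v v = 0) (hvu : B v u = 0) (a : F) {t : F} (ht : σ t = t) :
    hR.hTv (v + a • u) t = hR.hTv v t * hR.hS v u (t * σ a) * hR.hTv u (t * a * σ a) := by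
  have huv := hR.symm_zero hvu
  have h1 : B (v + a • u) (v + a • u) = 0 := by simp [hu, hv, huv, hvu]
  have h2 : σ (t * a * σ a) = t * a * σ a := by rw [map_mul, map_mul, hR.invol, ht]; ring
  refine Subtype.ext (LinearEquiv.ext fun z => ?_)
  simp only [Subgroup.coe_mul, LinearEquiv.mul_apply, hR.hTv_apply h1 ht, hR.hTv_apply hv ht,
    hR.hS_apply hv hu hvu, hR.hTv_apply hu h2, map_add, map_smul, map_smulₛₗ, LinearMap.add_apply,
    LinearMap.smul_apply, smul_eq_mul, hu, hv, huv, hvu, map_mul, hR.invol, ht]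
  module

/-- Two root elements with a common vector. -/
theorem hS_mul {a x y : V} (ha : B a a = 0) (hx : B x x = 0) (hy : B y y = 0) (hax : B a x = 0) (hay : B a y = 0)
    (hxy : B x y + σ (B x y) = 0) :
    σ (ε * B x y) = ε * B x y ∧ hR.hS a x 1 * hR.hS a y 1 = hR.hS a (x + y) 1 * hR.hTv a (ε * B x y) := by
  have hfix : σ (ε * B x y) = ε * B x y := by
    rw [map_mul, hR.eps_tr, eq_neg_of_add_eq_zero_right hxy]; ring
  have hsum : B (x + y) (x + y) = 0 := by
    rw [hR.herm.add_self, hx, hy, hxy]; ring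
  have hxa := hR.symm_zero hax
  have hya := hR.symm_zero hay
  refine ⟨hfix, Subtype.ext (LinearEquiv.ext fun z => ?_)⟩
  simp only [Subgroup.coe_mul, LinearEquiv.mul_apply, hR.hS_apply ha hx hax, hR.hS_apply ha hy hay,
    hR.hS_apply ha hsum (show B a (x + y) = 0 by rw [map_add, hax, hay, add_zero]),
    hR.hTv_apply ha hfix, map_one, map_add, map_smul, LinearMap.add_apply,
    LinearMap.smul_apply, smul_eq_mul, ha, hax, hay, hxa, hya]
  module

end IsHFrame

end CfsgLib.Classical.SubfieldMax
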