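import Cfsg.Agent.Lib.Classical.SubfieldMax.HermFrame

/-!
# Spreading a nonrational short root element of a unitary group
-/

set_option autoImplicit false
set_option linter.unusedSectionVars false

open Module

namespace CfsgLib.Classical.SubfieldMax

variable {F : Type*} [Field F] [Fintype F] {V : Type*} [AddCommGroup V] [Module F V] [FiniteDimensional F V]
  {σ : F →+* F} {F₀ : Subfield F} {B : V →ₛₗ[σ] V →ₗ[F] F} {V₀ : Submodule F₀ V} {ε : F}

/-- The subgroup contains the rational transvections. -/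
def RatHTv (hR : IsHFrame B V₀ ε) (M : Subgroup (isomGroup B)) : Prop :=
  ∀ u ∈ V₀, B u u = 0 → ∀ t ∈ F₀, σ t = t → hR.hTv u t ∈ M

variable {hR : IsHFrame B V₀ ε} {M : Subgroup (isomGroup B)}

theorem RatHTv.hS_mem (hM : RatHTv hR M) {u v : V} (hu : u ∈ V₀) (hv : v ∈ V₀) (huu : B u u = 0) (hvv : B v v = 0)
    (huv : B u v = 0) {s : F} (hs : s ∈ F₀) : hR.hS u v s ∈ M :=
  mul_mem (hM _ (add_mem hu (smul_mem' (hR.stable s hs) hv)) (by simp [huu, hvv, huv, hR.symm_zero huv]) 1
      (one_mem _) (map_one σ))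
    (mul_mem (hM u hu huu _ (neg_mem (one_mem _)) (by rw [map_neg, map_one]))
      (hM v hv hvv _ (neg_mem (mul_mem hs (hR.stable s hs))) (by rw [map_neg, hR.herm.conj.norm_fixed])))

/-- The coefficient is realised on the given pair. -/
def HasHS (hR : IsHFrame B V₀ ε) (M : Subgroup (isomGroup B)) (s : F) (u v : V₀) : Prop :=
  B (u : V) (u : V) = 0 ∧ B (v : V) (v : V) = 0 ∧ B (u : V) (v : V) = 0 ∧ hR.hS (u : V) (v : V) s ∈ M

theorem HasHS.swap {s : F} {u v : V₀} (h : HasHS hR M s u v) : HasHS hR M (σ s) v u :=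
  ⟨h.2.1, h.1, hR.symm_zero h.2.2.1, by rw [hR.hS_swap h.1 h.2.1 h.2.2.1, hR.invol]; exact h.2.2.2⟩

/-- The commutator of two short root elements. -/
theorem hS_commutator {s t : F} {a v v' x : V₀} (hs : HasHS hR M s a v) (ht : HasHS hR M t v' x)
    (hav' : B (a : V) (v' : V) = 0) (hax : B (a : V) (x : V) = 0) (hvx : B (v : V) (x : V) = 0)
    (hvv' : B (v : V) (v' : V) = 1) : HasHS hR M (ε * s * t) a x := by
  obtain ⟨haa, hvv, hav, hsM⟩ := hs
  obtain ⟨hv'v', hxx, hv'x, htM⟩ := ht
  refine ⟨haa, hxx, hax, ?_⟩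
  have hxa := hR.symm_zero hax
  have hxv' := hR.symm_zero hv'x
  have hv'a := hR.symm_zero hav'
  set g := hR.hS (a : V) (v : V) s
  have e1 : g.1 (x : V) = x := by
    rw [hR.hS_apply haa hvv hav, hvx, hax, mul_zero, zero_smul, add_zero, mul_zero, zero_smul, add_zero]
  have e2 : g.1 (v' : V) = (v' : V) + (ε * s) • (a : V) := by
    rw [hR.hS_apply haa hvv hav, hvv', hav', mul_zero, zero_smul, add_zero, mul_one]
  have hconj := hR.conj_hS g hv'v' hxx hv'x t
  rw [e1, e2] at hconj
  have key : hR.hS ((v' : V) + (ε * s) • (a : V)) x t = hR.hS (v' : V) x t * hR.hS (a : V) x (ε * s * t) := by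
    refine Subtype.ext (LinearEquiv.ext fun z => ?_)
    have h1 : B ((v' : V) + (ε * s) • (a : V)) ((v' : V) + (ε * s) • (a : V)) = 0 := by
      simp [hv'v', haa, hav', hv'a]
    have h2 : B ((v' : V) + (ε * s) • (a : V)) (x : V) = 0 := by simp [hv'x, hax]
    simp only [Subgroup.coe_mul, LinearEquiv.mul_apply, hR.hS_apply h1 hxx h2, hR.hS_apply hv'v' hxx hv'x,
      hR.hS_apply haa hxx hax, map_add, map_smul, map_smulₛₗ, LinearMap.add_apply, LinearMap.smul_apply,
      smul_eq_mul, map_mul, hR.eps_tr, hax, hxa, hav', hv'a, hxv', hxx, hv'x]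
    module
  have hmem : hR.hS (v' : V) x t * hR.hS (a : V) x (ε * s * t) ∈ M := by
    rw [← key, ← hconj]; exact mul_mem (mul_mem hsM htM) (inv_mem hsM)
  exact (Subgroup.mul_mem_cancel_left M htM).1 hmem

theorem finrank_list_le (L : List V₀) : finrank F₀ (Submodule.span F₀ {x | x ∈ L}) ≤ L.length := by
  classical
  rw [show {x | x ∈ L} = (L.toFinset : Set V₀) by ext; simp]
  exact (finrank_span_finset_le_card _).trans L.toFinset_card_le

theorem mem_span_single {a y : V₀} :
    y ∈ Submodule.span F₀ {z | z ∈ [a]} ↔ ∃ c : F₀, c • a = y := by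
  rw [show {z | z ∈ [a]} = ({a} : Set V₀) by ext; simp, Submodule.mem_span_singleton]

variable (hM : RatHTv hR M) (hdim : 6 ≤ finrank F₀ V₀)
include hM hdim

/-- Change the second vector. -/
theorem HasHS.move {s : F} {a v x : V₀} (h : HasHS hR M s a v) (hxx : B (x : V) (x : V) = 0)
    (hax : B (a : V) (x : V) = 0) (hvx : B (v : V) (x : V) = 0)
    (hind : v ∉ Submodule.span F₀ {y | y ∈ [a, x]}) : HasHS hR M s a x := by
  obtain ⟨v', hv'v', hvv', hL⟩ := hR.exists_iso_partner h.2.1 [a, x]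
    (by simp [h.2.2.1, hR.symm_zero hvx]) hind
  have h1 : HasHS hR M ε⁻¹ v' x :=
    ⟨hv'v', hxx, hR.symm_zero (hL x (by simp)),
      hM.hS_mem v'.2 x.2 hv'v' hxx (hR.symm_zero (hL x (by simp))) (inv_mem hR.eps_mem)⟩
  have := hS_commutator h h1 (hL a (by simp)) hax hvx hvv'
  rwa [mul_comm ε, mul_assoc, mul_inv_cancel₀ hR.eps_ne, mul_one] at this

/-- Change the second vector to any vector orthogonal to the first. -/
theorem HasHS.move_any {s : F} {a v x : V₀} (h : HasHS hR M s a v) (hav : v ∉ Submodule.span F₀ {y | y ∈ [a]})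
    (hxx : B (x : V) (x : V) = 0) (hax : B (a : V) (x : V) = 0) : HasHS hR M s a x := by
  have hset : ∀ {m : V₀}, {y | y ∈ [a, m]} = insert m ({a} : Set V₀) := fun {m} => by ext; simp [or_comm]
  have ha : {y | y ∈ [a]} = ({a} : Set V₀) := by ext; simp
  rw [ha] at hav
  -- a vector outside the line over `a` and a third vector
  have hout : ∀ {m p : V₀}, m ∉ Submodule.span F₀ ({a} : Set V₀) → p ∈ Submodule.span F₀ (insert m ({a} : Set V₀)) →
      p ∉ Submodule.span F₀ ({a} : Set V₀) → m ∈ Submodule.span F₀ (insert p ({a} : Set V₀)) := fun {m p} _ hp hpa =>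
    mem_span_insert_exchange hp hpa
  by_cases hvx : B (v : V) (x : V) = 0
  · by_cases hind : v ∈ Submodule.span F₀ {y | y ∈ [a, x]}
    swap
    · exact h.move hM hdim hxx hax hvx hind
    rw [hset] at hind
    obtain ⟨m, hm, hmm, hmL⟩ := hR.exists_iso_outside [a, v] (Submodule.span F₀ (insert v ({a} : Set V₀)))
      (by simp; omega) (by
        have := finrank_list_le [a, v]
        rw [hset] at this
        simp at this ⊢; omega)
    have hma : m ∉ Submodule.span F₀ ({a} : Set V₀) := fun e =>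
      hm (Submodule.span_mono (Set.subset_insert _ _) e)
    have hxv : x ∈ Submodule.span F₀ (insert v ({a} : Set V₀)) := mem_span_insert_exchange hind hav
    have h1 : HasHS hR M s a m := h.move hM hdim hmm (hmL a (by simp)) (hmL v (by simp)) fun e => by
      rw [hset] at e
      exact hm (hout hma e hav)
    refine h1.move hM hdim hxx hax ?_ fun e => ?_
    · obtain ⟨k, z, hz, rfl⟩ := Submodule.mem_span_insert.1 hxv
      obtain ⟨l, rfl⟩ := Submodule.mem_span_singleton.1 hz
      simp [coe_smul_eq, hR.symm_zero (hmL a (by simp)), hR.symm_zero (hmL v (by simp))]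
    · rw [hset] at e
      exact hm ((Submodule.span_le.2 (Set.insert_subset hxv
        (Set.singleton_subset_iff.2 (Submodule.subset_span (by simp))))) e)
  obtain ⟨m, hm, hmm, hmL⟩ := hR.exists_iso_outside' [a, v, x] (Submodule.span F₀ ({a} : Set V₀)) (by
    have := finrank_list_le [a]
    rw [ha] at this
    simp at this ⊢; omega)
  have hnot : ∀ p : V₀, B (p : V) (m : V) = 0 → ∀ y : V₀, B (p : V) (a : V) = 0 → B (p : V) (y : V) ≠ 0 →
      m ∉ Submodule.span F₀ (insert y ({a} : Set V₀)) := by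
    intro p hpm y hpa hpy e
    obtain ⟨k, z, hz, e'⟩ := Submodule.mem_span_insert.1 e
    obtain ⟨l, rfl⟩ := Submodule.mem_span_singleton.1 hz
    rw [e'] at hpm
    simp [coe_smul_eq, hpa] at hpm
    rcases hpm with hk | hk
    · exact hm (by rw [e', hk, zero_smul, zero_add]; exact Submodule.smul_mem _ _ (Submodule.mem_span_singleton_self a))
    · exact hpy hk
  have h1 : HasHS hR M s a m := h.move hM hdim hmm (hmL a (by simp)) (hmL v (by simp)) fun e => by
    rw [hset] at e
    exact hnot x (hmL x (by simp)) v (hR.symm_zero hax) (fun e' => hvx (hR.symm_zero e')) (hout hm e hav)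
  refine h1.move hM hdim hxx hax (hR.symm_zero (hmL x (by simp))) fun e => ?_
  rw [hset] at e
  exact hnot v (hmL v (by simp)) x (hR.symm_zero h.2.2.1) hvx e

/-- A short root coefficient is realised on every pair. -/
theorem HasHS.all {s : F} {a v : V₀} (h : HasHS hR M s a v) (hav : v ∉ Submodule.span F₀ {y | y ∈ [a]})
    (ha : a ≠ 0) {u x : V₀} (huu : B (u : V) (u : V) = 0) (hxx : B (x : V) (x : V) = 0)
    (hux : B (u : V) (x : V) = 0) : HasHS hR M s u x := by
  by_cases hu0 : u = 0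
  · subst hu0
    refine ⟨huu, hxx, hux, ?_⟩
    have e : hR.hS ((0 : V₀) : V) (x : V) s = 1 :=
      Subtype.ext (LinearEquiv.ext fun z => by rw [hR.hS_apply huu hxx hux]; simp)
    rw [e]; exact M.one_mem
  obtain ⟨m, hm, hmm, hmL⟩ := hR.exists_iso_outside [a, u] (Submodule.span F₀ {y | y ∈ [a, u]})
    (by simp; omega) (by have := finrank_list_le [a, u]; simp at this ⊢; omega)
  have h1 : HasHS hR M s a m := h.move_any hM hdim hav hmm (hmL a (by simp))
  have hline : ∀ {p : V₀}, p ≠ 0 → p ∈ ({a, u} : Set V₀) → m ∉ Submodule.span F₀ {y | y ∈ [p]} ∧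
      p ∉ Submodule.span F₀ {y | y ∈ [m]} := by
    intro p hp0 hp
    refine ⟨fun e => hm ?_, fun e => hm ?_⟩
    · refine Submodule.span_mono (fun y hy => ?_) e
      simp only [Set.mem_setOf_eq, List.mem_singleton] at hy
      subst hy
      simpa using hp
    · obtain ⟨c, hc⟩ := mem_span_single.1 e
      have hc0 : c ≠ 0 := fun e' => hp0 (by rw [← hc, e', zero_smul])
      rw [show m = c⁻¹ • p by rw [← hc, inv_smul_smul₀ hc0]]
      exact Submodule.smul_mem _ _ (Submodule.subset_span (by simpa using hp))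
  have h2 : HasHS hR M (σ s) m u := h1.swap.move_any hM hdim (hline ha (by simp)).2 huu (hR.symm_zero (hmL u (by simp)))
  have h3 := h2.swap.move_any hM hdim (hline hu0 (by simp)).1 hxx hux
  rwa [hR.invol] at h3

/-- A nonrational short root element gives the special unitary group. -/
theorem sIsom_le_of_hasHS {r : ℕ} (hr : r.Prime) (hcard : Fintype.card F = Nat.card F₀ ^ r) (hn : 4 ≤ finrank F V)
    {μ : F} (hμ : μ ∉ F₀) {a v : V₀} (h : HasHS hR M μ a v) (ha : a ≠ 0)
    (hav : v ∉ Submodule.span F₀ {y | y ∈ [a]}) : sIsom B ≤ M := by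
  let T : Set F := {t | ∀ u x : V₀, B (u : V) (u : V) = 0 → B (x : V) (x : V) = 0 → B (u : V) (x : V) = 0 →
    HasHS hR M t u x}
  have hF₀ : ∀ c ∈ F₀, c ∈ T := fun c hc u x huu hxx hux => ⟨huu, hxx, hux, hM.hS_mem u.2 x.2 huu hxx hux hc⟩
  have hμT : μ ∈ T := fun u x huu hxx hux => h.all hM hdim hav ha huu hxx hux
  have hprod : ∀ s ∈ T, ∀ t ∈ T, ε * s * t ∈ T := by
    intro s hs t ht u x huu hxx hux
    by_cases hu0 : u = 0
    · subst hu0
      refine ⟨huu, hxx, hux, ?_⟩
      have e : hR.hS ((0 : V₀) : V) (x : V) (ε * s * t) = 1 :=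
        Subtype.ext (LinearEquiv.ext fun z => by rw [hR.hS_apply huu hxx hux]; simp)
      rw [e]; exact M.one_mem
    obtain ⟨w, hw, hww, hwL⟩ := hR.exists_iso_outside [u, x] (Submodule.span F₀ {y | y ∈ [u, x]})
      (by simp; omega) (by have := finrank_list_le [u, x]; simp at this ⊢; omega)
    obtain ⟨v', hv'v', hwv', hL⟩ := hR.exists_iso_partner hww [u, x] hwL hw
    exact hS_commutator (hs u w huu hww (hwL u (by simp))) (ht v' x hv'v' hxx (hR.symm_zero (hL x (by simp))))
      (hL u (by simp)) hux (hR.symm_zero (hwL x (by simp))) hwv'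
  let R : Subring F :=
    { carrier := T
      one_mem' := hF₀ 1 (one_mem _)
      zero_mem' := hF₀ 0 (zero_mem _)
      add_mem' := fun {s t} hs ht u x huu hxx hux => ⟨huu, hxx, hux, by
        rw [hR.hS_add huu hxx hux]; exact mul_mem (hs u x huu hxx hux).2.2.2 (ht u x huu hxx hux).2.2.2⟩
      neg_mem' := fun {s} hs u x huu hxx hux => ⟨huu, hxx, hux, by
        rw [hR.hS_neg huu hxx hux]; exact inv_mem (hs u x huu hxx hux).2.2.2⟩
      mul_mem' := fun {s t} hs ht => by
        have h1 := hprod _ (hprod _ (hF₀ _ (inv_mem (mul_mem hR.eps_mem hR.eps_mem))) _ hs) _ ht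
        have e : ε * (ε * (ε * ε)⁻¹ * s) * t = s * t := by field_simp [hR.eps_ne]
        rwa [e] at h1 }
  have hall : ∀ t, t ∈ R := eq_top_of_prime_degree hr hcard R hF₀ (show μ ∈ R from hμT) hμ
  have hshort : ∀ (u x : V₀), B (u : V) (u : V) = 0 → B (x : V) (x : V) = 0 → B (u : V) (x : V) = 0 →
      ∀ t, hR.hS (u : V) (x : V) t ∈ M := fun u x huu hxx hux t => (hall t u x huu hxx hux).2.2.2
  -- long root elements
  have hlong : ∀ (u : V₀), B (u : V) (u : V) = 0 → ∀ t, σ t = t → hR.hTv (u : V) t ∈ M := by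
    intro u huu t ht
    obtain ⟨w, hw, hww, hwL⟩ := hR.exists_iso_outside [u] (Submodule.span F₀ {y | y ∈ [u]})
      (by simp; omega) (by have := finrank_list_le [u]; simp at this ⊢; omega)
    obtain ⟨v', hv'v', hwv', hL⟩ := hR.exists_iso_partner hww [u] hwL hw
    have huw : B (u : V) (w : V) = 0 := hwL u (by simp)
    have huv' : B (u : V) (v' : V) = 0 := hL u (by simp)
    obtain ⟨c, hc⟩ := hR.herm.conj.exists_norm_eq ht
    set s := c / ε
    have hσs := hshort u w huu hww huw s
    have hv1 := hM _ v'.2 hv'v' 1 (one_mem _) (map_one σ)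
    have h3 := mul_mem (mul_mem hσs hv1) (inv_mem hσs)
    have e2 : (hR.hS (u : V) (w : V) s).1 (v' : V) = (v' : V) + c • (u : V) := by
      rw [hR.hS_apply huu hww huw, hwv', huv', mul_zero, zero_smul, add_zero, mul_one, mul_div_cancel₀ _ hR.eps_ne]
    rw [hR.conj_hTv _ hv'v' (map_one σ), e2, hR.hTv_add huu hv'v' (hR.symm_zero huv') c (map_one σ)] at h3
    have h4 := hshort v' u hv'v' huu (hR.symm_zero huv') (1 * σ c)
    have := (Subgroup.mul_mem_cancel_left M (mul_mem hv1 h4)).1 h3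
    rwa [one_mul, hc] at this
  -- every isotropic vector is an axis
  refine hR.herm.sIsom_le_of_axes hR.nondeg hn fun v hvv => ?_
  by_cases hv0 : v = 0
  · rw [hv0]; exact hR.herm.isTAxis_zero M
  obtain ⟨u, huu, huv⟩ : ∃ u : V₀, B (u : V) (u : V) = 0 ∧ B (u : V) v ≠ 0 := by
    by_contra hc
    push Not at hc
    refine hv0 (hR.sep fun z hz => ?_)
    have hz' : (⟨z, hz⟩ : V₀) ∈ Submodule.span F₀ (IsHFrame.isoPerp B V₀ []) :=
      hR.mem_span_iso [] (by simp; omega) (by simp)
    suffices ∀ y ∈ Submodule.span F₀ (IsHFrame.isoPerp B V₀ []), B (y : V) v = 0 from this _ hz'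
    intro y hy
    induction hy using Submodule.span_induction with
    | mem y hy => exact hc y hy.1
    | zero => simp
    | add a b _ _ ha hb => simp [ha, hb]
    | smul c a _ ha => simp [coe_smul_eq, ha]
  have hu0 : u ≠ 0 := by rintro rfl; simp at huv
  obtain ⟨f, hff, huf, -⟩ := hR.exists_iso_partner huu [] (by simp) (by simpa using hu0)
  have hfu : B (f : V) (u : V) = 1 := by rw [← hR.symm, huf, map_one]
  -- scale
  suffices IsTAxis M ((B (u : V) v)⁻¹ • v) by
    have h' := this.smul hR.invol huv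
    rwa [smul_smul, mul_inv_cancel₀ huv, one_smul] at h'
  set v₁ := (B (u : V) v)⁻¹ • v with hv₁
  have huv₁ : B (u : V) v₁ = 1 := by rw [hv₁, map_smul, smul_eq_mul, inv_mul_cancel₀ huv]
  have hvv₁ : B v₁ v₁ = 0 := by rw [hv₁, hR.herm.smul_self, hvv, mul_zero]
  -- the unipotent radical at `u`
  let π : V → V := fun z => z - B (u : V) z • (f : V) - B (f : V) z • (u : V)
  have hπadd : ∀ a b, π (a + b) = π a + π b := fun a b => by simp only [π, map_add, add_smul]; abel
  have hπsmul : ∀ (c : F) a, π (c • a) = c • π a := fun c a => by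
    simp only [π, map_smul, smul_eq_mul, mul_smul, smul_sub]
  have hπperp : ∀ z, B (u : V) (π z) = 0 ∧ B (f : V) (π z) = 0 := fun z => by
    simp [π, huu, hff, huf, hfu]
  let Q : V → Prop := fun y => ∀ α : F, ∃ φ ∈ M, ∃ c : F, ∀ z,
    (φ : isomGroup B).1 z = z - B (α • y) z • (u : V) + B (u : V) z • (α • y) + (c * B (u : V) z) • (u : V)
  have hQzero : Q 0 := fun α => ⟨1, M.one_mem, 0, fun z => by simp⟩
  have hQadd : ∀ y y', B (u : V) y = 0 → B (u : V) y' = 0 → Q y → Q y' → Q (y + y') := by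
    intro y y' hy hy' hQy hQy' α
    obtain ⟨φ, hφ, c, hc⟩ := hQy α
    obtain ⟨φ', hφ', c', hc'⟩ := hQy' α
    refine ⟨φ * φ', mul_mem hφ hφ', c + c' - B (α • y) (α • y'), fun z => ?_⟩
    rw [Subgroup.coe_mul, LinearEquiv.mul_apply, hc, hc']
    simp only [map_add, map_sub, map_smul, map_smulₛₗ, LinearMap.add_apply, LinearMap.smul_apply, smul_eq_mul,
      smul_add, huu, hy', hR.symm_zero hy]
    module
  have hQspan : ∀ x : V₀, B (u : V) (x : V) = 0 → B (f : V) (x : V) = 0 → Q (x : V) := by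
    intro x hxu hxf
    have hx' := hR.mem_span_iso [u, f] (by simp; omega) (x := x) (by simp [hxu, hxf])
    suffices ∀ y ∈ Submodule.span F₀ (IsHFrame.isoPerp B V₀ [u, f]), B (u : V) (y : V) = 0 ∧ Q (y : V) from
      (this x hx').2
    intro y hy
    induction hy using Submodule.span_induction with
    | mem y hy =>
      have hyu : B (u : V) (y : V) = 0 := hy.2 u (by simp)
      refine ⟨hyu, fun α => ⟨hR.hS (u : V) (y : V) (σ (α / ε)), hshort u y huu hy.1 hyu _, 0, fun z => ?_⟩⟩
      rw [hR.hS_apply huu hy.1 hyu, hR.invol, mul_div_cancel₀ _ hR.eps_ne]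
      simp only [map_smulₛₗ, LinearMap.smul_apply, smul_eq_mul, smul_smul, map_div₀, hR.eps_tr, zero_mul, zero_smul,
        add_zero]
      rw [show ε * (σ α / -ε) = -σ α by field_simp [hR.eps_ne]]
      module
    | zero => exact ⟨by simp, by simpa using hQzero⟩
    | add a b _ _ ha hb =>
      exact ⟨by simp [ha.1, hb.1], by rw [Submodule.coe_add]; exact hQadd _ _ ha.1 hb.1 ha.2 hb.2⟩
    | smul k a _ ha =>
      refine ⟨by simp [coe_smul_eq, ha.1], fun α => ?_⟩
      rw [SetLike.val_smul, coe_smul_eq, smul_smul]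
      exact ha.2 _
  have hQπ : ∀ y : V, Q (π y) := by
    intro y
    have hy : y ∈ Submodule.span F (V₀ : Set V) := hR.spans ▸ Submodule.mem_top
    induction hy using Submodule.span_induction with
    | mem z hz =>
      have hzmem : π z ∈ V₀ :=
        sub_mem (sub_mem hz (smul_mem' (hR.form _ u.2 _ hz) f.2)) (smul_mem' (hR.form _ f.2 _ hz) u.2)
      exact hQspan ⟨π z, hzmem⟩ (hπperp z).1 (hπperp z).2
    | zero => simpa [π] using hQzero
    | add a b _ _ ha hb => rw [hπadd]; exact hQadd _ _ (hπperp a).1 (hπperp b).1 ha hb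
    | smul c a _ ha =>
      intro α
      rw [hπsmul, smul_smul]
      exact ha _
  set y := (f : V) - v₁ + B (f : V) v₁ • (u : V) with hydef
  have hy1 : B (u : V) y = 0 := by simp [hydef, huf, huu, huv₁]
  have hy2 : B (f : V) y = 0 := by simp [hydef, hff, hfu]
  have hπy : π y = y := by simp [π, hy1, hy2]
  obtain ⟨φ, hφ, c, hc⟩ := hQπ y 1
  have e : φ.1 v₁ = (f : V) + (B (f : V) v₁ + c - B y v₁) • (u : V) := by
    rw [hc, hπy, one_smul, huv₁, hydef]
    module
  set κ := B (f : V) v₁ + c - B y v₁ with hκ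
  have hiso : B ((f : V) + κ • (u : V)) ((f : V) + κ • (u : V)) = 0 := by rw [← e, isomGroup_apply, hvv₁]
  have hκtr : σ κ = -κ := by
    simp [hff, huu, huf, hfu] at hiso
    linear_combination hiso
  have hfix : σ (-κ / ε) = -κ / ε := by
    rw [map_div₀, map_neg, hκtr, hR.eps_tr]
    field_simp [hR.eps_ne]
  set ψ := hR.hTv (u : V) (-κ / ε) * φ
  have hψ : ψ ∈ M := mul_mem (hlong u huu _ hfix) hφ
  have hψv : ψ.1 v₁ = f := by
    rw [Subgroup.coe_mul, LinearEquiv.mul_apply, e, hR.hTv_apply huu hfix, map_add, map_smul, huu, huf,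
      mul_div_cancel₀ _ hR.eps_ne, smul_zero, add_zero, mul_one]
    module
  have hf : IsTAxis M (f : V) := fun g d hg => by
    obtain ⟨h1, h2⟩ := hR.eq_hTv hg
    rw [h2]; exact hlong f hff _ h1
  have := hf.map (inv_mem hψ)
  rwa [show (ψ⁻¹ : isomGroup B).1 (f : V) = v₁ from by rw [← hψv]; exact ψ.1.symm_apply_apply v₁] at this

end CfsgLib.Classical.SubfieldMax
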