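import Cfsg.Agent.Lib.Classical.GSpMax

/-!
# Transvections with respect to a subfield: commutators and spreading
-/

set_option autoImplicit false
set_option linter.unusedSectionVars false

open Matrix

namespace CfsgLib.Classical.SubfieldMax

variable {ι : Type} [Fintype ι] [DecidableEq ι] {F : Type*} [Field F]

/-- A vector with entries in the subfield. -/
def IsRat (F₀ : Subfield F) (v : ι → F) : Prop := ∀ i, v i ∈ F₀

/-- The subgroup contains the transvection with the given centre and axis. -/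
def HasT (M : Subgroup (GL ι F)) (x α : ι → F) : Prop := ∃ h : α ⬝ᵥ x = 0, trGL x α h ∈ M

/-- The subgroup contains the rational transvections. -/
def RatMem (F₀ : Subfield F) (M : Subgroup (GL ι F)) : Prop :=
  ∀ a β, IsRat F₀ a → IsRat F₀ β → β ⬝ᵥ a = 0 → HasT M a β

variable {F₀ : Subfield F} {M : Subgroup (GL ι F)}

theorem isRat_single (i : ι) {c : F} (hc : c ∈ F₀) : IsRat F₀ (Pi.single i c : ι → F) := fun k => by
  rw [Pi.single_apply]; split_ifs
  · exact hc
  · exact zero_mem _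

theorem IsRat.dot {a b : ι → F} (ha : IsRat F₀ a) (hb : IsRat F₀ b) : a ⬝ᵥ b ∈ F₀ :=
  Subfield.sum_mem _ fun i _ => mul_mem (ha i) (hb i)

theorem IsRat.smul {a : ι → F} (ha : IsRat F₀ a) {c : F} (hc : c ∈ F₀) : IsRat F₀ (c • a) :=
  fun i => mul_mem hc (ha i)

theorem HasT.add {x y α : ι → F} (hx : HasT M x α) (hy : HasT M y α) : HasT M (x + y) α := by
  obtain ⟨h1, m1⟩ := hx
  obtain ⟨h2, m2⟩ := hy
  refine ⟨by rw [dotProduct_add, h1, h2, add_zero], ?_⟩
  convert M.mul_mem m1 m2 using 1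
  refine Units.ext (Matrix.ext_iff_mulVec.2 fun v => ?_)
  rw [Units.val_mul, ← mulVec_mulVec, trGL_mulVec, trGL_mulVec, trGL_mulVec]
  simp [dotProduct_add, dotProduct_smul, h2]
  abel

theorem HasT.zero (α : ι → F) : HasT M 0 α :=
  ⟨dotProduct_zero α, by rw [trGL_eq_one_of (Or.inl rfl)]; exact M.one_mem⟩

theorem HasT.neg {x α : ι → F} (hx : HasT M x α) : HasT M (-x) α := by
  obtain ⟨h1, m1⟩ := hx
  refine ⟨by rw [dotProduct_neg, h1, neg_zero], ?_⟩
  convert M.inv_mem m1 using 1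
  refine eq_inv_of_mul_eq_one_left (Units.ext (Matrix.ext_iff_mulVec.2 fun v => ?_))
  rw [Units.val_mul, ← mulVec_mulVec, trGL_mulVec, trGL_mulVec, Units.val_one, one_mulVec]
  simp [dotProduct_add, dotProduct_smul, h1]

theorem HasT.congr {x α x' α' : ι → F} (hx : HasT M x α) (h : α' ⬝ᵥ x' = 0)
    (he : ∀ v, (α' ⬝ᵥ v) • x' = (α ⬝ᵥ v) • x) : HasT M x' α' := by
  obtain ⟨h1, m1⟩ := hx
  refine ⟨h, ?_⟩
  rwa [trGL_congr (v' := x) (f' := α) (h' := h1) he]

/-- The commutator of two transvections. -/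
theorem HasT.comm {x α y β : ι → F} (hx : HasT M x α) (hy : HasT M y β) (hb : β ⬝ᵥ x = 0) :
    HasT M ((α ⬝ᵥ y) • x) β := by
  obtain ⟨h1, m1⟩ := hx
  obtain ⟨h2, m2⟩ := hy
  refine ⟨by rw [dotProduct_smul, hb, smul_zero], ?_⟩
  have key : trGL x α h1 * trGL y β h2 =
      trGL ((α ⬝ᵥ y) • x) β (by rw [dotProduct_smul, hb, smul_zero]) * (trGL y β h2 * trGL x α h1) := by
    refine Units.ext (Matrix.ext_iff_mulVec.2 fun v => ?_)
    simp only [Units.val_mul, ← mulVec_mulVec, trGL_mulVec, dotProduct_add, dotProduct_smul, h1, h2, hb, smul_eq_mul,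
      mul_zero, add_zero]
    module
  rw [show trGL ((α ⬝ᵥ y) • x) β _ = trGL x α h1 * trGL y β h2 * (trGL y β h2 * trGL x α h1)⁻¹ by
    rw [key, mul_inv_cancel_right]]
  exact mul_mem (mul_mem m1 m2) (inv_mem (mul_mem m2 m1))

theorem exists_third (hn : 5 ≤ Fintype.card ι) (a b c d : ι) : ∃ e, e ≠ a ∧ e ≠ b ∧ e ≠ c ∧ e ≠ d := by
  by_contra h
  push Not at h
  have : (Finset.univ : Finset ι) ⊆ {a, b, c, d} := fun e _ => by
    by_contra he
    simp only [Finset.mem_insert, Finset.mem_singleton, not_or] at he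
    exact he.2.2.2 (h e he.1 he.2.1 he.2.2.1)
  have := (Finset.card_le_card this).trans Finset.card_le_four
  rw [Finset.card_univ] at this
  omega

theorem exists_rat_perp (hn : 5 ≤ Fintype.card ι) {a : ι → F} (ha : IsRat F₀ a) (j : ι) :
    ∃ β : ι → F, IsRat F₀ β ∧ β ≠ 0 ∧ β ⬝ᵥ a = 0 ∧ β j = 0 := by
  obtain ⟨l, hl, -, -, -⟩ := exists_third hn j j j j
  obtain ⟨m, hm, hml, -, -⟩ := exists_third hn j l l l
  by_cases h : a l = 0
  · exact ⟨Pi.single l 1, isRat_single l (one_mem _), by simp, by rw [single_dotProduct, h, mul_zero],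
      by simp [hl.symm]⟩
  refine ⟨Pi.single m (a l) - Pi.single l (a m), fun i => sub_mem (isRat_single m (ha l) i) (isRat_single l (ha m) i),
    ?_, by rw [sub_dotProduct, single_dotProduct, single_dotProduct]; ring, by simp [hl.symm, hm.symm]⟩
  intro e
  have := congrFun e m
  simp [hml] at this
  exact h this

variable (hM : RatMem F₀ M)
include hM

/-- A transvection with rational centre and nonrational axis. -/
theorem exists_scalar_of_rat_centre (hn : 5 ≤ Fintype.card ι) {a ψ : ι → F} (ha : IsRat F₀ a) (ha0 : a ≠ 0)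
    (hT : HasT M a ψ) {j : ι} (hj : ψ j ∉ F₀) :
    ∃ μ, μ ∉ F₀ ∧ ∃ a β : ι → F, IsRat F₀ a ∧ IsRat F₀ β ∧ a ≠ 0 ∧ β ≠ 0 ∧ β ⬝ᵥ a = 0 ∧ HasT M (μ • a) β := by
  obtain ⟨β, hβ, hβ0, hβa, hβj⟩ := exists_rat_perp hn ha j
  refine ⟨ψ j, hj, a, β, ha, hβ, ha0, hβ0, hβa, ?_⟩
  have := hT.comm (hM (Pi.single j 1) β (isRat_single j (one_mem _)) hβ (by rw [dotProduct_single, hβj, zero_mul])) hβa
  rwa [dotProduct_single, mul_one] at this

/-- From a nonrational multiple of a rational transvection to an elementary one. -/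
theorem exists_elementary (hn : 5 ≤ Fintype.card ι) {μ : F} {a β : ι → F} (ha : IsRat F₀ a) (hβ : IsRat F₀ β)
    (ha0 : a ≠ 0) (hβ0 : β ≠ 0) (hβa : β ⬝ᵥ a = 0) (hT : HasT M (μ • a) β) :
    ∃ i j : ι, i ≠ j ∧ HasT M (μ • Pi.single i 1) (Pi.single j 1) := by
  obtain ⟨k, hk⟩ := Function.ne_iff.1 ha0
  obtain ⟨i, hik, -, -, -⟩ := exists_third hn k k k k
  -- make the axis vanish at `i`
  obtain ⟨γ, hγ, hγ0, hγa, hγi, hTγ⟩ : ∃ γ, IsRat F₀ γ ∧ γ ≠ 0 ∧ γ ⬝ᵥ a = 0 ∧ γ i = 0 ∧ HasT M (μ • a) γ := by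
    by_cases h : β i = 0
    · exact ⟨β, hβ, hβ0, hβa, h, hT⟩
    obtain ⟨l, hli, hlk, -, -⟩ := exists_third hn i k k k
    refine ⟨Pi.single l (a k) - Pi.single k (a l), fun t => sub_mem (isRat_single l (ha k) t) (isRat_single k (ha l) t),
      ?_, by rw [sub_dotProduct, single_dotProduct, single_dotProduct]; ring, by simp [hik, hli.symm], ?_⟩
    · intro e
      have := congrFun e l
      simp [hlk] at this
      exact hk this
    have := hT.comm (hM (Pi.single i (β i)⁻¹) (Pi.single l (a k) - Pi.single k (a l))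
      (isRat_single i (inv_mem (hβ i)))
      (fun t => sub_mem (isRat_single l (ha k) t) (isRat_single k (ha l) t))
      (by simp [sub_dotProduct, single_dotProduct, hik.symm, hli]))
      (by rw [dotProduct_smul, sub_dotProduct, single_dotProduct, single_dotProduct, smul_eq_mul]; ring)
    rwa [dotProduct_single, mul_inv_cancel₀ h, one_smul] at this
  -- move the centre to `i`
  have hci : HasT M (μ • Pi.single i 1) γ := by
    have := (hM (Pi.single i 1) (Pi.single k (a k)⁻¹) (isRat_single i (one_mem _)) (isRat_single k (inv_mem (ha k)))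
      (by simp [single_dotProduct, hik.symm])).comm hTγ (by rw [dotProduct_single, hγi, zero_mul])
    rwa [dotProduct_smul, single_dotProduct, inv_mul_cancel₀ hk, smul_eq_mul, mul_one] at this
  -- move the axis
  obtain ⟨l, hl⟩ := Function.ne_iff.1 hγ0
  have hli : l ≠ i := fun e => hl (e ▸ hγi)
  obtain ⟨j, hji, hjl, -, -⟩ := exists_third hn i l l l
  refine ⟨i, j, hji.symm, ?_⟩
  have := hci.comm (hM (Pi.single l (γ l)⁻¹) (Pi.single j 1) (isRat_single l (inv_mem (hγ l)))
    (isRat_single j (one_mem _)) (by simp [single_dotProduct, hjl]))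
    (by simp [single_dotProduct, hji])
  rwa [dotProduct_single, mul_inv_cancel₀ hl, one_smul] at this

/-- Elementary transvections spread over all positions. -/
theorem elementary_all (hn : 5 ≤ Fintype.card ι) {μ : F} {i j : ι} (hij : i ≠ j)
    (hT : HasT M (μ • Pi.single i 1) (Pi.single j 1)) (k l : ι) (hkl : k ≠ l) :
    HasT M (μ • Pi.single k 1) (Pi.single l 1) := by
  have hax : ∀ {i j l : ι}, i ≠ j → i ≠ l → HasT M (μ • Pi.single i 1) (Pi.single j 1) →
      HasT M (μ • Pi.single i 1) (Pi.single l 1) := by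
    intro i j l hij hil h
    by_cases hjl : j = l
    · rwa [← hjl]
    have := h.comm (hM (Pi.single j 1) (Pi.single l 1) (isRat_single j (one_mem _)) (isRat_single l (one_mem _))
      (by simp [single_dotProduct, Ne.symm hjl])) (by simp [single_dotProduct, hil.symm])
    simpa [single_dotProduct] using this
  have hce : ∀ {i j k : ι}, i ≠ j → k ≠ j → HasT M (μ • Pi.single i 1) (Pi.single j 1) →
      HasT M (μ • Pi.single k 1) (Pi.single j 1) := by
    intro i j k hij hkj h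
    by_cases hik : i = k
    · rwa [← hik]
    have := (hM (Pi.single k 1) (Pi.single i 1) (isRat_single k (one_mem _)) (isRat_single i (one_mem _))
      (by simp [single_dotProduct, hik])).comm h (by simp [single_dotProduct, hkj.symm])
    simpa [single_dotProduct] using this
  obtain ⟨m, hmi, hmj, hmk, hml⟩ := exists_third hn i j k l
  exact hax hmk.symm hkl (hce hmi.symm hmk.symm (hax hij hmi.symm hT))

/-- A transvection with nonrational entries whose centre has a rational annihilator. -/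
theorem exists_scalar_of_annihilator (hn : 5 ≤ Fintype.card ι) {x ψ φ₀ : ι → F} (hT : HasT M x ψ)
    (hφ : IsRat F₀ φ₀) (hφ0 : φ₀ ≠ 0) (hφx : φ₀ ⬝ᵥ x = 0) (hbad : ∃ i j, x i * ψ j ∉ F₀) :
    ∃ μ, μ ∉ F₀ ∧ ∃ a β : ι → F, IsRat F₀ a ∧ IsRat F₀ β ∧ a ≠ 0 ∧ β ≠ 0 ∧ β ⬝ᵥ a = 0 ∧ HasT M (μ • a) β := by
  obtain ⟨i, j, hij⟩ := hbad
  by_cases hx : ∃ (l : F) (a : ι → F), IsRat F₀ a ∧ x = l • a
  · obtain ⟨l, a, ha, rfl⟩ := hx
    refine exists_scalar_of_rat_centre hM hn ha (fun e => hij (by simp [e])) (ψ := l • ψ)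
      (hT.congr ?_ fun v => by rw [smul_dotProduct, smul_eq_mul, mul_comm, mul_smul]) (j := j) fun h => hij ?_
    · rw [smul_dotProduct, ← dotProduct_smul]; exact hT.1
    · have := mul_mem (ha i) h
      simpa [mul_assoc, mul_comm, mul_left_comm] using this
  push Not at hx
  obtain ⟨c, hc, hTc⟩ : ∃ c : F, c ≠ 0 ∧ HasT M (c • x) φ₀ := by
    by_cases he : ∃ e, IsRat F₀ e ∧ φ₀ ⬝ᵥ e = 0 ∧ ψ ⬝ᵥ e ≠ 0
    · obtain ⟨e, he, he0, hψe⟩ := he
      exact ⟨_, hψe, hT.comm (hM e φ₀ he hφ he0) hφx⟩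
    push Not at he
    obtain ⟨l, hl⟩ := Function.ne_iff.1 hφ0
    have hprop : ∀ t, ψ t = φ₀ t * (ψ l / φ₀ l) := by
      intro t
      have := he (Pi.single t 1 - Pi.single l (φ₀ t / φ₀ l))
        (fun u => sub_mem (isRat_single t (one_mem _) u) (isRat_single l (div_mem (hφ t) (hφ l)) u))
        (by rw [dotProduct_sub, dotProduct_single, dotProduct_single, mul_one, mul_div_cancel₀ _ hl, sub_self])
      rw [dotProduct_sub, dotProduct_single, dotProduct_single, mul_one, sub_eq_zero] at this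
      rw [this]; ring
    refine ⟨ψ l / φ₀ l, fun e => hij (by rw [hprop j, e, mul_zero, mul_zero]; exact zero_mem _),
      hT.congr (by rw [dotProduct_smul, hφx, smul_zero]) fun v => ?_⟩
    have e : ψ ⬝ᵥ v = (ψ l / φ₀ l) * (φ₀ ⬝ᵥ v) := by
      rw [← smul_eq_mul, ← smul_dotProduct]
      exact congrArg (· ⬝ᵥ v) (funext fun t => by rw [hprop t, Pi.smul_apply, smul_eq_mul, mul_comm])
    rw [e, smul_smul, mul_comm]
  obtain ⟨t, ht⟩ : ∃ t, c * x t ∉ F₀ := by
    by_contra h
    push Not at h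
    exact hx c⁻¹ (c • x) h (by rw [smul_smul, inv_mul_cancel₀ hc, one_smul])
  obtain ⟨e, he, he0, heφ, het⟩ := exists_rat_perp hn hφ t
  rw [dotProduct_comm] at heφ
  refine ⟨c * x t, ht, e, φ₀, he, hφ, he0, hφ0, heφ, ?_⟩
  have := (hM e (Pi.single t 1) he (isRat_single t (one_mem _)) (by rw [single_dotProduct, het, mul_zero])).comm hTc heφ
  rwa [single_dotProduct, one_mul, Pi.smul_apply, smul_eq_mul] at this

end CfsgLib.Classical.SubfieldMax
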