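import Cfsg.Agent.Lib.Classical.SubfieldMax.SympSpread

/-!
# From a nonrational transvection to a nonrational short root element
-/

set_option autoImplicit false
set_option linter.unusedSectionVars false
set_option backward.isDefEq.respectTransparency false

open Module Matrix
open scoped MatrixGroups

namespace CfsgLib.Classical.SubfieldMax

variable {F : Type*} [Field F] [Fintype F] {V : Type*} [AddCommGroup V] [Module F V] [FiniteDimensional F V]
  {F₀ : Subfield F} {B : V →ₗ[F] V →ₗ[F] F} {V₀ : Submodule F₀ V}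
  {hR : IsFrame B V₀} {M : Subgroup (isomGroup B)}

/-- The outer square of `w` is not rational. -/
def IsBad (B : V →ₗ[F] V →ₗ[F] F) (V₀ : Submodule F₀ V) (w : V) : Prop :=
  ∃ y u : V₀, B (y : V) w * B (u : V) w ∉ F₀

variable (hM : RatTV hR M)
include hM

/-- A bad vector with many rational vectors orthogonal to it. -/
theorem exists_hasSh_of_perp (hdim : 5 ≤ finrank F₀ V₀) {w : V} (hw : tv hR.isAlt w 1 ∈ M) (hbad : IsBad B V₀ w)
    (hN : 3 ≤ finrank F₀ (LinearMap.ker (pairing B V₀ w))) :
    ∃ (μ : F) (a v : V₀), μ ∉ F₀ ∧ a ≠ 0 ∧ v ∉ Submodule.span F₀ {y | y ∈ [a]} ∧ HasSh hR M μ a v := by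
  have hA := hR.isAlt
  obtain ⟨y, u, hyu⟩ := hbad
  -- a rational vector orthogonal to `w`, `y`, `u`
  obtain ⟨a, haN, hay, hau, ha0⟩ : ∃ a : V₀, B (a : V) w = 0 ∧ B (a : V) (y : V) = 0 ∧ B (a : V) (u : V) = 0 ∧ a ≠ 0 := by
    set N := LinearMap.ker (pairing B V₀ w) with hN'
    let Φ : N →ₗ[F₀] F₀ × F₀ :=
      ((hR.form₀.flip y).comp N.subtype).prod ((hR.form₀.flip u).comp N.subtype)
    obtain ⟨⟨a, ha⟩, hΦ, ha0⟩ : ∃ a : N, Φ a = 0 ∧ a ≠ 0 := by
      by_contra hc
      push Not at hc
      have hinj : Function.Injective Φ := LinearMap.ker_eq_bot.1 ((Submodule.eq_bot_iff _).2 fun a ha => by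
        by_contra h; exact h (hc a ha))
      have := LinearMap.finrank_le_finrank_of_injective hinj
      simp at this
      omega
    have h1 := congrArg Subtype.val (congrArg Prod.fst hΦ)
    have h2 := congrArg Subtype.val (congrArg Prod.snd hΦ)
    exact ⟨a, ha, h1, h2, fun e => ha0 (Subtype.ext e)⟩
  set k := B (y : V) w with hk
  -- the root element at `a`
  obtain ⟨e, hE⟩ : ∃ e, sh hA (a : V) (k • w) 1 * tv hA (a : V) e ∈ M := by
    have hσ := hM.sh_mem (c := 1) a.2 y.2 (one_mem _)
    have h3 := mul_mem (mul_mem hσ hw) (inv_mem hσ)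
    rw [conj_tv, sh_apply hA hay, hR.symm_zero haN, mul_zero, zero_smul, add_zero, one_mul,
      hR.swap w (y : V), ← hk, tv_add hA (hR.symm_zero haN)] at h3
    rw [mul_assoc] at h3
    have h4 := (Subgroup.mul_mem_cancel_left M hw).1 h3
    refine ⟨-(k * k), ?_⟩
    have h5 := inv_mem h4
    rw [_root_.mul_inv_rev] at h5
    have e1 : (sh hA w (a : V) (1 * -k))⁻¹ = sh hA (a : V) (k • w) 1 := by
      rw [← sh_neg hA (hR.symm_zero haN), one_mul, neg_neg, sh_smul hA haN, sh_comm hA _ _ haN]
    have e2 : (tv hA (a : V) (1 * -k * -k))⁻¹ = tv hA (a : V) (-(k * k)) := by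
      apply inv_eq_of_mul_eq_one_right
      rw [tv_mul, one_mul, neg_mul_neg, add_neg_cancel, tv_zero]
    rw [e1, e2] at h5
    -- the centre commutes
    have hcomm : tv hA (a : V) (-(k * k)) * sh hA (a : V) (k • w) 1 = sh hA (a : V) (k • w) 1 * tv hA (a : V) (-(k * k)) := by
      have hakw : B (a : V) (k • w) = 0 := by rw [map_smul, haN, smul_zero]
      have e3 : (sh hA (a : V) (k • w) 1).1 (a : V) = a := by
        rw [sh_apply hA hakw, hA (a : V), hakw]; simp
      have e4 := conj_tv hA (sh hA (a : V) (k • w) 1) (a : V) (-(k * k))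
      rw [e3, mul_inv_eq_iff_eq_mul] at e4
      exact e4.symm
    rwa [hcomm] at h5
  set x := k • w with hx
  have hax : B (a : V) x = 0 := by rw [hx, map_smul, haN, smul_zero]
  -- move `x` by the transvection at `u`
  set μ := B x (u : V) with hμdef
  have hμ : μ ∉ F₀ := by
    intro h
    apply hyu
    rw [hμdef, hx, map_smul, LinearMap.smul_apply, smul_eq_mul, hR.swap w (u : V), mul_neg] at h
    simpa using neg_mem h
  obtain ⟨e', hE'⟩ : ∃ e', sh hA (a : V) (μ • (u : V)) 1 * tv hA (a : V) e' ∈ M := by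
    have hσ := hM (u : V) u.2 1 (one_mem _)
    have h3 := mul_mem (mul_mem hσ hE) (inv_mem hσ)
    have hfix : (tv hA (u : V) 1).1 (a : V) = a := by rw [tv_apply, hau, mul_zero, zero_smul, add_zero]
    have hmove : (tv hA (u : V) 1).1 x = x + μ • (u : V) := by rw [tv_apply, one_mul]
    have e1 : tv hA (u : V) 1 * (sh hA (a : V) x 1 * tv hA (a : V) e) * (tv hA (u : V) 1)⁻¹ =
        sh hA (a : V) (x + μ • (u : V)) 1 * tv hA (a : V) e := by
      rw [show tv hA (u : V) 1 * (sh hA (a : V) x 1 * tv hA (a : V) e) * (tv hA (u : V) 1)⁻¹ =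
        (tv hA (u : V) 1 * sh hA (a : V) x 1 * (tv hA (u : V) 1)⁻¹) *
          (tv hA (u : V) 1 * tv hA (a : V) e * (tv hA (u : V) 1)⁻¹) by group,
        conj_sh, conj_tv, hfix, hmove]
    rw [e1] at h3
    have hμu : B (a : V) (μ • (u : V)) = 0 := by rw [map_smul, hau, smul_zero]
    -- `sh (x + μ u) = sh x · sh (μ u) · tv`
    have e2 : sh hA (a : V) (x + μ • (u : V)) 1 =
        sh hA (a : V) x 1 * sh hA (a : V) (μ • (u : V)) 1 * tv hA (a : V) (-(B (μ • (u : V)) x)) := by
      rw [sh_mul hA hax hμu, mul_assoc, tv_mul, add_neg_cancel, tv_zero, mul_one]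
    rw [e2] at h3
    refine ⟨-(B (μ • (u : V)) x), ?_⟩
    have h6 := mul_mem (inv_mem hE) h3
    have hc : ∀ (v : V) (c : F), B (a : V) v = 0 →
        sh hA (a : V) v 1 * tv hA (a : V) c = tv hA (a : V) c * sh hA (a : V) v 1 := by
      intro v c hv
      have e3 : (sh hA (a : V) v 1).1 (a : V) = a := by rw [sh_apply hA hv, hA (a : V), hv]; simp
      have e4 := conj_tv hA (sh hA (a : V) v 1) (a : V) c
      rwa [e3, mul_inv_eq_iff_eq_mul] at e4
    have e5 : (sh hA (a : V) x 1 * tv hA (a : V) e)⁻¹ * (sh hA (a : V) x 1 * sh hA (a : V) (μ • (u : V)) 1 *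
        tv hA (a : V) (-(B (μ • (u : V)) x)) * tv hA (a : V) e) =
        (tv hA (a : V) e)⁻¹ * (sh hA (a : V) (μ • (u : V)) 1 * tv hA (a : V) (-(B (μ • (u : V)) x))) * tv hA (a : V) e := by
      group
    rw [e5] at h6
    have e6 : sh hA (a : V) (μ • (u : V)) 1 * tv hA (a : V) (-(B (μ • (u : V)) x)) * tv hA (a : V) e =
        tv hA (a : V) e * (sh hA (a : V) (μ • (u : V)) 1 * tv hA (a : V) (-(B (μ • (u : V)) x))) := by
      rw [mul_assoc, tv_mul, add_comm, ← tv_mul, ← mul_assoc, hc _ _ hμu, mul_assoc]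
    rwa [mul_assoc, e6, ← mul_assoc, inv_mul_cancel, one_mul] at h6
  -- shift `u` by a rational vector
  have hu : u ∉ Submodule.span F₀ {y | y ∈ [a]} := by
    rw [show {y | y ∈ [a]} = ({a} : Set V₀) by ext; simp]
    intro hc
    obtain ⟨c, rfl⟩ := Submodule.mem_span_singleton.1 hc
    apply hyu
    rw [SetLike.val_smul, coe_smul_eq, map_smul, LinearMap.smul_apply, haN, smul_zero, mul_zero]
    exact zero_mem _
  obtain ⟨y', hy', hyL⟩ := exists_partner_avoid hM [a] (by simp) hu
  obtain ⟨v, hv, hvL⟩ := hR.exists_perp_outside [a, y', u] (Submodule.span F₀ {y | y ∈ [a]}) (by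
    have := finrank_span_le hM [a]; simp at this ⊢; omega)
  refine ⟨μ, a, v, hμ, ha0, hv, hvL a (by simp), ?_⟩
  have hvy : B (v : V) (y' : V) = 0 := hR.symm_zero (hvL y' (by simp))
  have hav : B (a : V) (v : V) = 0 := hvL a (by simp)
  have hay' : B (a : V) (y' : V) = 0 := hyL a (by simp)
  have huv : B (u : V) (v : V) = 0 := hvL u (by simp)
  have hσ := hM.sh_mem (c := 1) v.2 y'.2 (one_mem _)
  set σ := sh hA (v : V) (y' : V) 1
  have hfix : σ.1 (a : V) = a := by rw [sh_apply hA hvy, hav, hay']; simp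
  have hmove : σ.1 (μ • (u : V)) = μ • (u : V) + μ • (v : V) := by
    rw [sh_apply hA hvy, map_smul, LinearMap.smul_apply, LinearMap.smul_apply, huv, hy']; simp
  have h3 := mul_mem (mul_mem hσ hE') (inv_mem hσ)
  rw [show σ * (sh hA (a : V) (μ • (u : V)) 1 * tv hA (a : V) e') * σ⁻¹ =
      (σ * sh hA (a : V) (μ • (u : V)) 1 * σ⁻¹) * (σ * tv hA (a : V) e' * σ⁻¹) by group,
    conj_sh, conj_tv, hfix, hmove] at h3
  have hμu : B (a : V) (μ • (u : V)) = 0 := by rw [map_smul, hau, smul_zero]
  have hμv : B (a : V) (μ • (v : V)) = 0 := by rw [map_smul, hav, smul_zero]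
  have e2 : sh hA (a : V) (μ • (u : V) + μ • (v : V)) 1 =
      sh hA (a : V) (μ • (v : V)) 1 * sh hA (a : V) (μ • (u : V)) 1 := by
    rw [sh_mul hA hμv hμu, add_comm (μ • (v : V)), show B (μ • (u : V)) (μ • (v : V)) = 0 by
      rw [map_smul, map_smul, LinearMap.smul_apply, huv]; simp, tv_zero, mul_one]
  rw [e2, mul_assoc] at h3
  have h7 := (Subgroup.mul_mem_cancel_right M hE').1 h3
  rwa [sh_smul hA hav] at h7

variable (hdim : 14 ≤ finrank F₀ V₀)
include hdim

set_option maxHeartbeats 1600000 in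
/-- A bad vector gives a nonrational short root element. -/
theorem exists_hasSh_of_bad {r : ℕ} (hr : r.Prime) (hcard : Fintype.card F = Nat.card F₀ ^ r) {w : V}
    (hw : tv hR.isAlt w 1 ∈ M) (hbad : IsBad B V₀ w) :
    ∃ (μ : F) (a v : V₀), μ ∉ F₀ ∧ a ≠ 0 ∧ v ∉ Submodule.span F₀ {y | y ∈ [a]} ∧ HasSh hR M μ a v := by
  classical
  by_cases hN3 : 3 ≤ finrank F₀ (LinearMap.ker (pairing B V₀ w))
  · exact exists_hasSh_of_perp hM (by omega) hw hbad hN3
  have hA := hR.isAlt
  set N := LinearMap.ker (pairing B V₀ w) with hNdef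
  have hr12 : 12 ≤ r := by
    have h1 := (pairing B V₀ w).finrank_range_add_finrank_ker
    have h2 : finrank F₀ (LinearMap.range (pairing B V₀ w)) ≤ r := by
      refine (Submodule.finrank_le _).trans ?_
      have h := Module.natCard_eq_pow_finrank (K := F₀) (V := F)
      rw [Nat.card_eq_fintype_card, hcard] at h
      exact (Nat.pow_right_injective Finite.one_lt_card h).ge
    have h3 : finrank F₀ N ≤ 2 := by omega
    change _ + finrank F₀ N = _ at h1
    omega
  -- four orthogonal rational vectors with independent pairings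
  obtain ⟨u, hiso, hind⟩ : ∃ u : Fin 4 → V₀, (∀ i j, B (u i : V) (u j : V) = 0) ∧
      ∀ c : Fin 4 → F₀, B ((∑ i, c i • u i : V₀) : V) w = 0 → c = 0 := by
    have step : ∀ L : List V₀, L.length ≤ 3 → ∃ y : V₀,
        y ∉ Submodule.span F₀ {z | z ∈ L} ⊔ N ∧ ∀ a ∈ L, B (a : V) (y : V) = 0 := fun L hL =>
      hR.exists_perp_outside L _ (by
        have h1 := Submodule.finrank_add_le_finrank_add_finrank (Submodule.span F₀ {z | z ∈ L}) N
        have h2 := finrank_span_le hM L
        omega)
    obtain ⟨u0, h0, -⟩ := step [] (by simp)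
    obtain ⟨u1, h1, p1⟩ := step [u0] (by simp)
    obtain ⟨u2, h2, p2⟩ := step [u0, u1] (by simp)
    obtain ⟨u3, h3, p3⟩ := step [u0, u1, u2] (by simp)
    refine ⟨![u0, u1, u2, u3], ?_, fun c hc => ?_⟩
    · have q10 := p1 u0 (by simp); have q20 := p2 u0 (by simp); have q21 := p2 u1 (by simp)
      have q30 := p3 u0 (by simp); have q31 := p3 u1 (by simp); have q32 := p3 u2 (by simp)
      intro i j
      fin_cases i <;> fin_cases j <;>
        first
          | exact hA _
          | assumption
          | exact hR.symm_zero (by assumption)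
    · have hcN : (∑ i, c i • ![u0, u1, u2, u3] i : V₀) ∈ N := hc
      have e : (∑ i, c i • ![u0, u1, u2, u3] i : V₀) = c 0 • u0 + c 1 • u1 + c 2 • u2 + c 3 • u3 := by
        simp [Fin.sum_univ_four]
      rw [e] at hcN
      have key : ∀ (L : List V₀) (y z : V₀) (d : F₀), y ∉ Submodule.span F₀ {z | z ∈ L} ⊔ N →
          z ∈ Submodule.span F₀ {z | z ∈ L} → z + d • y ∈ N → d = 0 := by
        intro L y z d hy hz hzy
        by_contra hd
        refine hy ?_
        have e : y = d⁻¹ • ((z + d • y) - z) := by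
          rw [add_sub_cancel_left, smul_smul, inv_mul_cancel₀ hd, one_smul]
        rw [e]
        exact Submodule.smul_mem _ _ (sub_mem (Submodule.mem_sup_right hzy) (Submodule.mem_sup_left hz))
      have m : ∀ {L : List V₀} {z : V₀} (d : F₀), z ∈ L → d • z ∈ Submodule.span F₀ {z | z ∈ L} := fun d hz =>
        Submodule.smul_mem _ _ (Submodule.subset_span hz)
      have e3 : c 3 = 0 := key [u0, u1, u2] u3 _ _ h3 (add_mem (add_mem (m _ (by simp)) (m _ (by simp))) (m _ (by simp))) hcN
      rw [e3, zero_smul, add_zero] at hcN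
      have e2 : c 2 = 0 := key [u0, u1] u2 _ _ h2 (add_mem (m _ (by simp)) (m _ (by simp))) hcN
      rw [e2, zero_smul, add_zero] at hcN
      have e1 : c 1 = 0 := key [u0] u1 _ _ h1 (m _ (by simp)) hcN
      rw [e1, zero_smul, add_zero] at hcN
      have e0 : c 0 = 0 := key [] u0 0 _ h0 (zero_mem _) (by simpa using hcN)
      funext i; fin_cases i <;> assumption
  set β : Fin 4 → F := fun i => B w (u i : V) with hβ
  let βc : (Fin 4 → F₀) → F := fun c => ∑ i, (c i : F) * β i
  have hβc : ∀ c : Fin 4 → F₀, B w ((∑ i, c i • u i : V₀) : V) = βc c := fun c => by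
    simp [βc, hβ, Submodule.coe_sum, map_sum, coe_smul_eq]
  have hβinj : ∀ c, βc c = 0 → c = 0 := fun c hc => hind c (hR.symm_zero (by rw [hβc, hc]))
  have hβ0 : β 0 ≠ 0 := fun h => by
    have := congrFun (hβinj (Pi.single 0 1) (by
      simp only [βc, Fin.sum_univ_four]; simp [Pi.single_apply, h])) 0
    simp at this
  -- the span of the members and its part orthogonal to `w`
  let UF : Submodule F V := Submodule.span F (Set.range fun i => (u i : V))
  have hUFiso : ∀ a ∈ UF, ∀ b ∈ UF, B a b = 0 := by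
    intro a ha b hb
    induction ha using Submodule.span_induction with
    | mem a ha =>
      obtain ⟨i, rfl⟩ := ha
      induction hb using Submodule.span_induction with
      | mem b hb => obtain ⟨j, rfl⟩ := hb; exact hiso i j
      | zero => simp
      | add a b _ _ ha hb => simp [ha, hb]
      | smul c a _ ha => simp [ha]
    | zero => simp
    | add a b _ _ ha hb => simp [ha, hb]
    | smul c a _ ha => simp [ha]
  have hmemUF : ∀ c : Fin 4 → F₀, ((∑ i, c i • u i : V₀) : V) ∈ UF := fun c => by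
    rw [Submodule.coe_sum]
    exact Submodule.sum_mem _ fun i _ => by
      rw [SetLike.val_smul, coe_smul_eq]; exact Submodule.smul_mem _ _ (Submodule.subset_span ⟨i, rfl⟩)
  set e := (u 0 : V) with he
  have heUF : e ∈ UF := Submodule.subset_span ⟨0, rfl⟩
  let Z : Submodule F V := UF ⊓ LinearMap.ker (B w)
  -- the group induced on the plane
  let K₀ : Submonoid SL(2, F) :=
    { carrier := {k | ∃ m ∈ M,
        (m.1 e - ((k : Matrix (Fin 2) (Fin 2) F) 0 0 • e + (k : Matrix (Fin 2) (Fin 2) F) 1 0 • w) ∈ Z) ∧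
        (m.1 w - ((k : Matrix (Fin 2) (Fin 2) F) 0 1 • e + (k : Matrix (Fin 2) (Fin 2) F) 1 1 • w) ∈ Z) ∧
        ∀ z ∈ Z, m.1 z = z}
      one_mem' := ⟨1, M.one_mem, by simp, by simp, fun z _ => rfl⟩
      mul_mem' := by
        rintro k k' ⟨m, hm, h1, h2, h3⟩ ⟨m', hm', h1', h2', h3'⟩
        refine ⟨m * m', M.mul_mem hm hm', ?_, ?_, fun z hz => by
          rw [Subgroup.coe_mul, LinearEquiv.mul_apply, h3' z hz, h3 z hz]⟩
        · show _ - (((k : Matrix (Fin 2) (Fin 2) F) * (k' : Matrix (Fin 2) (Fin 2) F)) 0 0 • e +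
            ((k : Matrix (Fin 2) (Fin 2) F) * (k' : Matrix (Fin 2) (Fin 2) F)) 1 0 • w) ∈ Z
          have e2 := h3 _ h1'
          rw [map_sub, map_add, map_smul, map_smul, sub_eq_iff_eq_add] at e2
          simp only [Matrix.mul_apply, Fin.sum_univ_two]
          rw [Subgroup.coe_mul, LinearEquiv.mul_apply, e2]
          convert add_mem h1' (add_mem (Z.smul_mem ((k' : Matrix (Fin 2) (Fin 2) F) 0 0) h1)
            (Z.smul_mem ((k' : Matrix (Fin 2) (Fin 2) F) 1 0) h2)) using 1
          module
        · show _ - (((k : Matrix (Fin 2) (Fin 2) F) * (k' : Matrix (Fin 2) (Fin 2) F)) 0 1 • e +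
            ((k : Matrix (Fin 2) (Fin 2) F) * (k' : Matrix (Fin 2) (Fin 2) F)) 1 1 • w) ∈ Z
          have e2 := h3 _ h2'
          rw [map_sub, map_add, map_smul, map_smul, sub_eq_iff_eq_add] at e2
          simp only [Matrix.mul_apply, Fin.sum_univ_two]
          rw [Subgroup.coe_mul, LinearEquiv.mul_apply, e2]
          convert add_mem h2' (add_mem (Z.smul_mem ((k' : Matrix (Fin 2) (Fin 2) F) 0 1) h1)
            (Z.smul_mem ((k' : Matrix (Fin 2) (Fin 2) F) 1 1) h2)) using 1
          module }
  let K : Subgroup SL(2, F) :=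
    { K₀ with
      inv_mem' := fun {k} hk => by
        have e : k⁻¹ = k ^ (orderOf k - 1) := inv_eq_of_mul_eq_one_right (by
          rw [← pow_succ', Nat.sub_add_cancel (orderOf_pos k), pow_orderOf_eq_one])
        show k⁻¹ ∈ K₀
        rw [e]
        exact pow_mem hk _ }
  let Λ : AddSubgroup F :=
    AddSubgroup.closure {b | ∃ (t : F₀) (c : Fin 4 → F₀), b = (t : F) * βc c * βc c / β 0}
  have hsub : ∀ b ∈ Λ, upper b ∈ K := by
    intro b hb
    induction hb using AddSubgroup.closure_induction with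
    | mem b hb =>
      obtain ⟨t, c, rfl⟩ := hb
      set U := ((∑ i, c i • u i : V₀) : V) with hU
      refine ⟨_, hM U (SetLike.coe_mem _) t t.2, ?_, ?_, fun z hz => ?_⟩
      · rw [tv_apply, hUFiso e heUF U (hmemUF c)]
        simp [upper]
      · have hz : U - (βc c / β 0) • e ∈ Z := by
          refine ⟨sub_mem (hmemUF c) (UF.smul_mem _ heUF), ?_⟩
          show B w (U - (βc c / β 0) • e) = 0
          rw [map_sub, map_smul, hU, hβc, smul_eq_mul]
          show βc c - βc c / β 0 * β 0 = 0
          rw [div_mul_cancel₀ _ hβ0, sub_self]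
        rw [tv_apply, show B w U = βc c from hβc c]
        convert Z.smul_mem ((t : F) * βc c) hz using 1
        simp [upper]
        module
      · rw [tv_apply, hUFiso z hz.1 U (hmemUF c), mul_zero, zero_smul, add_zero]
    | zero => simpa [upper, SpecialLinearGroup.ext_iff, Matrix.one_apply, Fin.forall_fin_two] using
        (show upper (0 : F) ∈ K from by
          rw [show upper (0 : F) = 1 by
            apply Matrix.SpecialLinearGroup.ext; intro i j; fin_cases i <;> fin_cases j <;> simp [upper]]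
          exact K.one_mem)
    | add a b _ _ ha hb =>
      rw [show upper (a + b) = upper a * upper b by
        apply Matrix.SpecialLinearGroup.ext; intro i j
        fin_cases i <;> fin_cases j <;> simp [upper, Matrix.mul_apply, Fin.sum_univ_two, add_comm]]
      exact mul_mem ha hb
    | neg a _ ha =>
      rw [show upper (-a) = (upper a)⁻¹ by
        apply eq_inv_of_mul_eq_one_left
        apply Matrix.SpecialLinearGroup.ext; intro i j
        fin_cases i <;> fin_cases j <;> simp [upper, Matrix.mul_apply, Fin.sum_univ_two]]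
      exact inv_mem ha
  let w₀ : SL(2, F) := ⟨!![1, 0; -β 0, 1], by simp⟩
  have hw₀ : w₀ ∈ K := by
    refine ⟨_, hw, ?_, ?_, fun z hz => ?_⟩
    · rw [tv_apply, hR.swap e w, one_mul, show B w e = β 0 from rfl]
      simp [w₀]
    · rw [tv_apply, hA w]; simp [w₀]
    · rw [tv_apply, hR.swap z w, show B w z = 0 from hz.2]; simp
  have hΛcard : Nat.card F₀ ^ 4 ≤ Nat.card Λ := by
    have hc4 : Nat.card (Fin 4 → F₀) = Nat.card F₀ ^ 4 := by rw [Nat.card_fun, Nat.card_fin]
    rw [← hc4]
    by_cases h2 : (2 : F) = 0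
    · haveI : CharP F 2 := CharTwo.of_one_ne_zero_of_two_eq_zero one_ne_zero h2
      refine Nat.card_le_card_of_injective
        (fun c => ⟨((1 : F₀) : F) * βc c * βc c / β 0, AddSubgroup.subset_closure ⟨1, c, rfl⟩⟩) ?_
      intro c c' h
      have h1 : βc c * βc c = βc c' * βc c' := by
        have := congrArg Subtype.val h
        simpa [div_left_inj' hβ0] using this
      refine sub_eq_zero.1 (hβinj (c - c') ?_)
      have h3 : βc c = βc c' := by
        rcases mul_self_eq_mul_self_iff.1 h1 with h3 | h3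
        · exact h3
        · rw [h3, CharTwo.neg_eq]
      simp only [βc, Pi.sub_apply, AddSubgroupClass.coe_sub, sub_mul, Finset.sum_sub_distrib]
      exact sub_eq_zero.2 h3
    · let d : Fin 4 → F₀ := Pi.single 0 1
      refine Nat.card_le_card_of_injective (fun c => ⟨2 * βc c, ?_⟩) ?_
      · have e : 2 * βc c = ((1 : F₀) : F) * βc (c + d) * βc (c + d) / β 0 +
            -(((1 : F₀) : F) * βc c * βc c / β 0) + -(((1 : F₀) : F) * βc d * βc d / β 0) := by
          have hd : βc d = β 0 := by simp [βc, d, Fin.sum_univ_four, Pi.single_apply]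
          have hadd : βc (c + d) = βc c + β 0 := by
            rw [← hd]; simp only [βc, Pi.add_apply, AddMemClass.coe_add, add_mul, Finset.sum_add_distrib]
          rw [hadd, hd, OneMemClass.coe_one, one_mul, one_mul, one_mul]
          field_simp
          ring
        rw [e]
        exact add_mem (add_mem (AddSubgroup.subset_closure ⟨1, _, rfl⟩)
          (neg_mem (AddSubgroup.subset_closure ⟨1, _, rfl⟩))) (neg_mem (AddSubgroup.subset_closure ⟨1, _, rfl⟩))
      · intro c c' h
        have h1 : βc c = βc c' := mul_left_cancel₀ h2 (congrArg Subtype.val h)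
        refine sub_eq_zero.1 (hβinj (c - c') ?_)
        simp only [βc, Pi.sub_apply, AddSubgroupClass.coe_sub, sub_mul, Finset.sum_sub_distrib]
        exact sub_eq_zero.2 h1
  obtain ⟨k, ⟨m, hmM, hme, -, hmZ⟩, hk0, hksq⟩ := exists_borel_outside K Λ hsub hw₀ (by simpa [w₀] using hβ0) F₀
    (by
      have : 2 ^ 4 ≤ Nat.card F₀ ^ 4 := Nat.pow_le_pow_left Finite.one_lt_card 4
      omega)
    (le_trans (Nat.pow_le_pow_right Nat.card_pos (by norm_num)) hΛcard)
  set γ := (k : Matrix (Fin 2) (Fin 2) F) 0 0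
  rw [hk0, zero_smul, add_zero] at hme
  -- images of the members
  by_contra hno
  let P : Submodule F₀ F := Submodule.span F₀ (Set.range fun c : Fin 4 → F₀ => βc c * βc c)
  have hP2 : ∀ c, γ * γ * (βc c * βc c) ∈ P := by
    intro c
    set U := ((∑ i, c i • u i : V₀) : V) with hU
    set v := m.1 U with hv
    have hz : U - (βc c / β 0) • e ∈ Z := by
      refine ⟨sub_mem (hmemUF c) (UF.smul_mem _ heUF), ?_⟩
      show B w (U - (βc c / β 0) • e) = 0
      rw [map_sub, map_smul, hU, hβc, smul_eq_mul]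
      show βc c - βc c / β 0 * β 0 = 0
      rw [div_mul_cancel₀ _ hβ0, sub_self]
    have hve : v = (βc c / β 0) • m.1 e + (U - (βc c / β 0) • e) := by
      rw [hv, ← hmZ _ hz, map_sub, map_smul]; abel
    have hvUF : v ∈ UF := by
      rw [hve]
      refine add_mem (UF.smul_mem _ ?_) hz.1
      have := add_mem hme.1 (UF.smul_mem γ heUF)
      rwa [sub_add_cancel] at this
    have hvw : B w v = γ * βc c := by
      have h1 : B w (m.1 e - γ • e) = 0 := hme.2
      rw [map_sub, map_smul, sub_eq_zero] at h1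
      rw [hve, map_add, map_smul, h1, show B w (U - (βc c / β 0) • e) = 0 from hz.2, add_zero, smul_eq_mul,
        smul_eq_mul, show B w e = β 0 from rfl]
      field_simp
    -- `v` is good
    have hgood : ¬ IsBad B V₀ v := by
      intro hvbad
      refine hno (exists_hasSh_of_perp hM (by omega) ?_ hvbad ?_)
      · rw [← conj_tv]; exact mul_mem (mul_mem hmM (hM _ (SetLike.coe_mem _) 1 (one_mem _))) (inv_mem hmM)
      · let lin : (Fin 4 → F₀) →ₗ[F₀] LinearMap.ker (pairing B V₀ v) :=
          LinearMap.codRestrict _ (Fintype.linearCombination F₀ u) fun d => by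
            rw [LinearMap.mem_ker, pairing_apply, Fintype.linearCombination_apply]
            exact hUFiso _ (hmemUF d) _ hvUF
        have hinj : Function.Injective lin := by
          intro d d' h
          refine sub_eq_zero.1 (hind (d - d') ?_)
          have h1 := congrArg Subtype.val h
          simp only [lin, LinearMap.codRestrict_apply, Fintype.linearCombination_apply] at h1
          rw [show (∑ i, (d - d') i • u i : V₀) = 0 by
            simp only [Pi.sub_apply, sub_smul, Finset.sum_sub_distrib, h1, sub_self]]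
          simp
        have := LinearMap.finrank_le_finrank_of_injective hinj
        rw [Module.finrank_fintype_fun_eq_card, Fintype.card_fin] at this
        omega
    rw [IsBad] at hgood
    push Not at hgood
    -- coordinates of `v`
    obtain ⟨b, hb⟩ := (Submodule.mem_span_range_iff_exists_fun F).1 hvUF
    have hcc : ∀ i j, b i * b j ∈ F₀ := by
      have hf : ∀ i, ∃ y : V₀, ∀ j, B (y : V) (u j : V) = if i = j then 1 else 0 := by
        have hli : LinearIndependent F₀ u := by
          rw [Fintype.linearIndependent_iff]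
          intro d hd i
          exact congrFun (hind d (by rw [hd]; simp)) i
        intro i
        obtain ⟨f, hf⟩ : ∃ f : V₀ →ₗ[F₀] F₀, ∀ j, f (u j) = if i = j then 1 else 0 := by
          obtain ⟨g, hg⟩ := LinearMap.exists_leftInverse_of_injective (Fintype.linearCombination F₀ u)
            (LinearMap.ker_eq_bot.2 hli.fintypeLinearCombination_injective)
          refine ⟨(LinearMap.proj i).comp g, fun j => ?_⟩
          have := congrFun (LinearMap.congr_fun hg (Pi.single j 1)) i
          simpa [Fintype.linearCombination_apply_single, Pi.single_apply] using this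
        obtain ⟨z, hz⟩ := hR.exists_of_dual (-f)
        refine ⟨z, fun j => ?_⟩
        rw [hR.swap, hz, LinearMap.neg_apply, hf]
        split_ifs <;> simp
      intro i j
      obtain ⟨y, hy⟩ := hf i
      obtain ⟨y', hy'⟩ := hf j
      have := hgood y y'
      rw [← hb] at this
      simpa [map_sum, hy, hy', mul_comm] using this
    have hsum : γ * γ * (βc c * βc c) = ∑ i, ∑ j, b i * b j * (β i * β j) := by
      have : γ * βc c = ∑ i, b i * β i := by rw [← hvw, ← hb]; simp [map_sum, hβ]
      calc γ * γ * (βc c * βc c) = (∑ i, b i * β i) * ∑ j, b j * β j := by rw [← this]; ring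
        _ = _ := by rw [Finset.sum_mul_sum]; exact Finset.sum_congr rfl fun i _ => Finset.sum_congr rfl fun j _ => by ring
    have hone : ∀ i, βc (Pi.single i 1) = β i := fun i => by simp [βc, Pi.single_apply, apply_ite (Subtype.val : F₀ → F), ite_mul]
    have hsq : ∀ i, β i * β i ∈ P := fun i => Submodule.subset_span ⟨Pi.single i 1, by simp only [hone]⟩
    have hsm : ∀ {a x : F}, a ∈ F₀ → x ∈ P → a * x ∈ P := fun {a x} ha hx => P.smul_mem ⟨a, ha⟩ hx
    have hcross : ∀ i j, β i * β j + β j * β i ∈ P := fun i j => by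
      have h1 : βc (Pi.single i 1 + Pi.single j 1) = β i + β j := by
        simp only [βc, Pi.add_apply, AddMemClass.coe_add, add_mul, Finset.sum_add_distrib]
        exact congrArg₂ (· + ·) (hone i) (hone j)
      have h2 : (β i + β j) * (β i + β j) ∈ P := Submodule.subset_span ⟨Pi.single i 1 + Pi.single j 1, by simp only [h1]⟩
      have h3 := sub_mem (sub_mem h2 (hsq i)) (hsq j)
      convert h3 using 1
      ring
    rw [hsum]
    simp only [Fin.sum_univ_four]
    have e : ∀ i j, b i * b j * (β i * β j) + b j * b i * (β j * β i) ∈ P := fun i j => by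
      rw [mul_comm (b j) (b i), ← mul_add]; exact hsm (hcc i j) (hcross i j)
    have d : ∀ i, b i * b i * (β i * β i) ∈ P := fun i => hsm (hcc i i) (hsq i)
    have := add_mem (add_mem (add_mem (d 0) (d 1)) (add_mem (d 2) (d 3)))
      (add_mem (add_mem (add_mem (e 0 1) (e 0 2)) (add_mem (e 0 3) (e 1 2))) (add_mem (e 1 3) (e 2 3)))
    convert this using 1
    ring
  let R : Subring F :=
    { carrier := {c | ∀ b ∈ P, c * b ∈ P}
      one_mem' := fun b hb => by rwa [one_mul]
      zero_mem' := fun b _ => by rw [zero_mul]; exact zero_mem P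
      add_mem' := fun {a c} ha hc b hb => by rw [add_mul]; exact add_mem (ha b hb) (hc b hb)
      neg_mem' := fun {a} ha b hb => by rw [neg_mul]; exact neg_mem (ha b hb)
      mul_mem' := fun {a c} ha hc b hb => by rw [mul_assoc]; exact ha _ (hc b hb) }
  have hR' : ∀ c, c ∈ R := eq_top_of_prime_degree hr hcard R
    (fun c hc b hb => P.smul_mem ⟨c, hc⟩ hb)
    (show γ * γ ∈ R from fun b hb => by
      induction hb using Submodule.span_induction with
      | mem b hb => obtain ⟨c, rfl⟩ := hb; exact hP2 c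
      | zero => rw [mul_zero]; exact zero_mem P
      | add a b _ _ ha hb => rw [mul_add]; exact add_mem ha hb
      | smul t a _ ha =>
        rw [Subfield.smul_def, smul_eq_mul, mul_left_comm]
        exact P.smul_mem t ha) (by rwa [← pow_two])
  have htop : P = ⊤ := eq_top_iff.2 fun x _ => by
    have hb : β 0 * β 0 ∈ P := Submodule.subset_span ⟨Pi.single 0 1, by simp [βc, Pi.single_apply, apply_ite (Subtype.val : F₀ → F), ite_mul]⟩
    have := hR' (x / (β 0 * β 0)) _ hb
    rwa [div_mul_cancel₀ _ (mul_ne_zero hβ0 hβ0)] at this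
  -- but it has dimension at most `10`
  let q : {p : Fin 4 × Fin 4 // p.1 ≤ p.2} → F := fun p => β p.1.1 * β p.1.2
  have hPle : P ≤ Submodule.span F₀ (Set.range q) := by
    refine Submodule.span_le.2 ?_
    rintro _ ⟨c, rfl⟩
    simp only [βc, Finset.sum_mul_sum]
    refine Submodule.sum_mem _ fun i _ => Submodule.sum_mem _ fun j _ => ?_
    have e : (c i : F) * β i * ((c j : F) * β j) = (c i * c j) • (β i * β j) := by
      rw [Subfield.smul_def, smul_eq_mul]; push_cast; ring
    rw [e]
    refine Submodule.smul_mem _ _ ?_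
    rcases le_total i j with h | h
    · exact Submodule.subset_span ⟨⟨(i, j), h⟩, rfl⟩
    · rw [mul_comm]; exact Submodule.subset_span ⟨⟨(j, i), h⟩, rfl⟩
  have h10 : finrank F₀ (Submodule.span F₀ (Set.range q)) ≤ 10 :=
    (finrank_range_le_card (R := F₀) q).trans (by decide)
  have h := Submodule.finrank_mono hPle
  rw [htop, finrank_top] at h
  have hfr := Module.natCard_eq_pow_finrank (K := F₀) (V := F)
  rw [Nat.card_eq_fintype_card, hcard] at hfr
  have := Nat.pow_right_injective Finite.one_lt_card hfr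
  omega

omit hM hdim in
/-- An element not preserving the rational structure up to a scalar moves some rational vector to a bad one. -/
theorem exists_isBad (hR : IsFrame B V₀) (hdim : 1 ≤ finrank F₀ V₀) {g : isomGroup B}
    (hnot : ¬ ∃ s : F, s ≠ 0 ∧ ∀ f ∈ V₀, s • g.1 f ∈ V₀) : ∃ e : V₀, IsBad B V₀ (g.1 (e : V)) := by
  by_contra hgood
  simp only [IsBad, not_exists, not_not] at hgood
  -- a base vector
  obtain ⟨e₀, he₀⟩ : ∃ e : V₀, e ≠ 0 := by
    haveI := Module.nontrivial_of_finrank_pos (R := F₀) (M := V₀) (by omega)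
    exact exists_ne 0
  have hk : ∀ f : V₀, f ≠ 0 → ∃ y : V₀, B (y : V) (g.1 (f : V)) ≠ 0 := by
    intro f hf
    by_contra hc
    push Not at hc
    exact hf (Subtype.ext (g.1.map_eq_zero_iff.1 (hR.sep fun u hu => hc ⟨u, hu⟩)))
  obtain ⟨y₀, hy₀⟩ := hk e₀ he₀
  set k := B (y₀ : V) (g.1 (e₀ : V)) with hkdef
  refine hnot ⟨k, hy₀, fun f hf => hR.mem_of_pairing fun z hz => ?_⟩
  rw [map_smul, smul_eq_mul]
  by_cases hdep : (⟨f, hf⟩ : V₀) ∈ Submodule.span F₀ {e₀}
  · obtain ⟨c, hc⟩ := Submodule.mem_span_singleton.1 hdep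
    have e : f = (c : F) • (e₀ : V) := (congrArg Subtype.val hc).symm
    rw [e, map_smul, map_smul, smul_eq_mul, mul_left_comm]
    exact mul_mem c.2 (hgood e₀ y₀ ⟨z, hz⟩)
  set w := g.1 (e₀ : V) with hwdef
  set w' := g.1 f with hw'def
  have hf0 : (⟨f, hf⟩ : V₀) ≠ 0 := fun e => hdep (by rw [e]; exact zero_mem _)
  -- a rational vector orthogonal to `w'` but not to `w`
  obtain ⟨y₁, hy₁⟩ := hk _ hf0
  have hsum : ∀ a b : V₀, B (a : V) w * B (b : V) w' + B (a : V) w' * B (b : V) w ∈ F₀ := by
    intro a b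
    have h := hgood (e₀ + ⟨f, hf⟩) a b
    rw [Submodule.coe_add, map_add, map_add, map_add] at h
    have h1 := sub_mem (sub_mem h (hgood e₀ a b)) (hgood ⟨f, hf⟩ a b)
    convert h1 using 1
    ring
  obtain ⟨y, hy', hy⟩ : ∃ y : V₀, B (y : V) w' = 0 ∧ B (y : V) w ≠ 0 := by
    by_contra hc
    push Not at hc
    -- then `w` is a multiple of `w'`
    set c := B (y₁ : V) w / B (y₁ : V) w'
    have hww : w - c • w' = 0 := hR.sep fun u hu => by
      have h3 := hc (⟨u, hu⟩ - (⟨B u w' / B (y₁ : V) w', by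
        have h1 := hgood ⟨f, hf⟩ ⟨u, hu⟩ y₁
        have h2 := hgood ⟨f, hf⟩ y₁ y₁
        have e : B u w' / B (y₁ : V) w' = B u w' * B (y₁ : V) w' / (B (y₁ : V) w' * B (y₁ : V) w') := by
          rw [mul_div_mul_right _ _ hy₁]
        rw [e]; exact div_mem h1 h2⟩ : F₀) • y₁) (by
        rw [Submodule.coe_sub, SetLike.val_smul, coe_smul_eq, map_sub, map_smul, LinearMap.sub_apply,
          LinearMap.smul_apply, smul_eq_mul, div_mul_cancel₀ _ hy₁, sub_self])
      rw [Submodule.coe_sub, SetLike.val_smul, coe_smul_eq, map_sub, map_smul, LinearMap.sub_apply,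
        LinearMap.smul_apply, smul_eq_mul, sub_eq_zero] at h3
      rw [map_sub, map_smul, h3, smul_eq_mul, sub_eq_zero]
      simp only [c]
      field_simp
    rw [hwdef, hw'def, ← map_smul, ← map_sub, g.1.map_eq_zero_iff, sub_eq_zero] at hww
    have hc0 : c ≠ 0 := fun e => he₀ (Subtype.ext (by rw [hww, e, zero_smul]; rfl))
    obtain ⟨p, hp⟩ : ∃ p : V₀, B (p : V) f ≠ 0 := by
      by_contra hc'
      push Not at hc'
      exact hf0 (Subtype.ext (hR.sep fun u hu => hc' ⟨u, hu⟩))
    have hcF : c ∈ F₀ := by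
      have e1 : c = B (p : V) (e₀ : V) / B (p : V) f := by
        rw [hww, map_smul, smul_eq_mul, mul_div_cancel_right₀ _ hp]
      rw [e1]; exact div_mem (hR.form _ p.2 _ e₀.2) (hR.form _ p.2 _ hf)
    refine hdep (Submodule.mem_span_singleton.2 ⟨(⟨c, hcF⟩ : F₀)⁻¹, Subtype.ext ?_⟩)
    show (c⁻¹ : F) • (e₀ : V) = f
    rw [hww, smul_smul, inv_mul_cancel₀ hc0, one_smul]
  have h2 := hsum y ⟨z, hz⟩
  rw [hy', zero_mul, add_zero] at h2
  have e : k * B z w' = k * B (y : V) w * (B (y : V) w * B z w') / (B (y : V) w * B (y : V) w) := by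
    field_simp
  rw [e]
  exact div_mem (mul_mem (hgood e₀ y₀ y) h2) (hgood e₀ y y)

/-- Above the rational symplectic group. -/
theorem symp_top {r : ℕ} (hr : r.Prime) (hcard : Fintype.card F = Nat.card F₀ ^ r) {g : isomGroup B} (hg : g ∈ M)
    (hnot : ¬ ∃ s : F, s ≠ 0 ∧ ∀ f ∈ V₀, s • g.1 f ∈ V₀) : M = ⊤ := by
  obtain ⟨e, he⟩ := exists_isBad hR (by omega) hnot
  obtain ⟨μ, a, v, hμ, ha, hav, h⟩ := exists_hasSh_of_bad hM hdim hr hcard
    (show tv hR.isAlt (g.1 (e : V)) 1 ∈ M by
      rw [← conj_tv]; exact mul_mem (mul_mem hg (hM _ e.2 1 (one_mem _))) (inv_mem hg)) he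
  exact top_of_hasSh hM hdim hr hcard hμ h ha hav

end CfsgLib.Classical.SubfieldMax
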