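import Cfsg.Agent.Lib.Classical.SubfieldMax.SympFrame

/-!
# Spreading a nonrational short root element
-/

set_option autoImplicit false
set_option linter.unusedSectionVars false

open Module

namespace CfsgLib.Classical.SubfieldMax

variable {F : Type*} [Field F] [Fintype F] {V : Type*} [AddCommGroup V] [Module F V] [FiniteDimensional F V]
  {F₀ : Subfield F} {B : V →ₗ[F] V →ₗ[F] F} {V₀ : Submodule F₀ V}

/-- The subgroup contains the rational transvections. -/
def RatTV (hR : IsFrame B V₀) (M : Subgroup (isomGroup B)) : Prop :=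
  ∀ u ∈ V₀, ∀ c ∈ F₀, tv hR.isAlt u c ∈ M

variable {hR : IsFrame B V₀} {M : Subgroup (isomGroup B)}

theorem RatTV.sh_mem (hM : RatTV hR M) {u v : V} (hu : u ∈ V₀) (hv : v ∈ V₀) {c : F} (hc : c ∈ F₀) :
    sh hR.isAlt u v c ∈ M :=
  mul_mem (hM _ (add_mem hu hv) c hc) (mul_mem (hM u hu _ (neg_mem hc)) (hM v hv _ (neg_mem hc)))

/-- The coefficient is realised on the given pair. -/
def HasSh (hR : IsFrame B V₀) (M : Subgroup (isomGroup B)) (t : F) (u v : V₀) : Prop :=
  B (u : V) (v : V) = 0 ∧ sh hR.isAlt (u : V) (v : V) t ∈ M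

theorem HasSh.symm {t : F} {u v : V₀} (h : HasSh hR M t u v) : HasSh hR M t v u :=
  ⟨hR.symm_zero h.1, by rw [sh_comm hR.isAlt _ _ h.1]; exact h.2⟩

/-- The commutator of two short root elements. -/
theorem sh_commutator {s t : F} {a v v' x : V₀} (hs : HasSh hR M s a v) (ht : HasSh hR M t v' x)
    (hav' : B (a : V) (v' : V) = 0) (hax : B (a : V) (x : V) = 0) (hvx : B (v : V) (x : V) = 0)
    (hvv' : B (v : V) (v' : V) = 1) : HasSh hR M (s * t) a x := by
  refine ⟨hax, ?_⟩
  have hA := hR.isAlt
  set σ := sh hA (a : V) (v : V) s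
  have e1 : σ.1 (x : V) = x := by
    rw [sh_apply hA hs.1, hR.symm_zero hax, hR.symm_zero hvx, mul_zero, zero_smul, add_zero, zero_smul, add_zero]
  have e2 : σ.1 (v' : V) = (v' : V) + (-s) • (a : V) := by
    rw [sh_apply hA hs.1, hR.symm_zero hav', mul_zero, zero_smul, add_zero, hR.swap (v' : V) v, hvv', mul_neg, mul_one]
  have hconj : σ * sh hA (v' : V) (x : V) t * σ⁻¹ = sh hA ((v' : V) + (-s) • (a : V)) x t := by
    rw [conj_sh, e1, e2]
  have hxa : B (x : V) ((-s) • (a : V)) = 0 := by rw [map_smul, hR.symm_zero hax, smul_zero]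
  have hxv' : B (x : V) (v' : V) = 0 := hR.symm_zero ht.1
  have key : sh hA ((v' : V) + (-s) • (a : V)) x t = sh hA (v' : V) x t * sh hA (a : V) x (-(s * t)) := by
    refine Subtype.ext (LinearEquiv.ext fun z => ?_)
    have h1 : B ((v' : V) + (-s) • (a : V)) x = 0 := by
      rw [map_add, LinearMap.add_apply, map_smul, LinearMap.smul_apply, ht.1, hax, smul_zero, add_zero]
    simp only [Subgroup.coe_mul, LinearEquiv.mul_apply, sh_apply hA h1, sh_apply hA ht.1, sh_apply hA hax, map_add,
      map_smul, LinearMap.add_apply, LinearMap.smul_apply, smul_eq_mul, hR.symm_zero hax, hax, hR.symm_zero hav',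
      hav', hxv', hA (x : V), ht.1]
    module
  have hmem : sh hA (v' : V) x t * sh hA (a : V) x (-(s * t)) ∈ M := by
    rw [← key, ← hconj]; exact mul_mem (mul_mem hs.2 ht.2) (inv_mem hs.2)
  have := inv_mem ((Subgroup.mul_mem_cancel_left M ht.2).1 hmem)
  rwa [← sh_neg hA hax, neg_neg] at this

variable (hM : RatTV hR M)
include hM

theorem exists_partner_avoid {v : V₀} (L : List V₀) (hL : L.length ≤ 3)
    (hv : v ∉ Submodule.span F₀ {x | x ∈ L}) :
    ∃ v' : V₀, B (v : V) (v' : V) = 1 ∧ ∀ a ∈ L, B (a : V) (v' : V) = 0 := by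
  obtain ⟨f, hfv, hfL⟩ := Submodule.exists_dual_map_eq_bot_of_notMem hv inferInstance
  obtain ⟨z, hz⟩ := hR.exists_of_dual ((f v)⁻¹ • f)
  refine ⟨z, ?_, fun a ha => ?_⟩
  · rw [hz, LinearMap.smul_apply, smul_eq_mul, inv_mul_cancel₀ hfv]; rfl
  · rw [hz, LinearMap.smul_apply, show f a = 0 from (Submodule.eq_bot_iff _).1 hfL _
      (Submodule.mem_map_of_mem (Submodule.subset_span ha)), smul_zero]
    rfl

theorem finrank_span_le (L : List V₀) : finrank F₀ (Submodule.span F₀ {x | x ∈ L}) ≤ L.length := by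
  classical
  have : {x | x ∈ L} = (L.toFinset : Set V₀) := by ext; simp
  rw [this]
  exact (finrank_span_finset_le_card _).trans L.toFinset_card_le

/-- Change the second vector. -/
theorem HasSh.move {t : F} {a v x : V₀} (h : HasSh hR M t a v) (hax : B (a : V) (x : V) = 0)
    (hvx : B (v : V) (x : V) = 0) (hind : v ∉ Submodule.span F₀ {y | y ∈ [a, x]}) : HasSh hR M t a x := by
  obtain ⟨v', hv', hL⟩ := exists_partner_avoid hM [a, x] (by simp) hind
  have h1 : HasSh hR M 1 v' x :=
    ⟨hR.symm_zero (hL x (by simp)), hM.sh_mem v'.2 x.2 (one_mem _)⟩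
  have := sh_commutator h h1 (hL a (by simp)) hax hvx hv'
  rwa [mul_one] at this

variable (hdim : 14 ≤ finrank F₀ V₀)
include hdim

/-- A short root coefficient is realised on every pair. -/
theorem HasSh.all {t : F} {a v : V₀} (h : HasSh hR M t a v) (hav : v ∉ Submodule.span F₀ {y | y ∈ [a]})
    (ha : a ≠ 0) {u x : V₀} (hux : B (u : V) (x : V) = 0) (hx : x ∉ Submodule.span F₀ {y | y ∈ [u]}) :
    HasSh hR M t u x := by
  obtain ⟨m, hm, hmL⟩ := hR.exists_perp_outside [a, v, u, x] (Submodule.span F₀ {y | y ∈ [a, v, u, x]}) (by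
    have := finrank_span_le hM [a, v, u, x]; simp at this ⊢; omega)
  obtain ⟨m', hm', hmL'⟩ := hR.exists_perp_outside [a, v, u, x, m] (Submodule.span F₀ {y | y ∈ [a, v, u, x, m]}) (by
    have := finrank_span_le hM [a, v, u, x, m]; simp at this ⊢; omega)
  have hmem : ∀ {S T : Set V₀}, S ⊆ T → ∀ {y}, y ∈ Submodule.span F₀ S → y ∈ Submodule.span F₀ T :=
    fun hST _ hy => Submodule.span_mono hST hy
  -- `(a, v) → (a, m)`
  have h1 : HasSh hR M t a m := h.move hM (hmL a (by simp)) (hmL v (by simp)) fun hc => by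
    rw [show {y | y ∈ [a, m]} = insert m ({a} : Set V₀) by ext; simp [or_comm]] at hc
    obtain ⟨c, z, hz, hcz⟩ := Submodule.mem_span_insert.1 hc
    by_cases hc0 : c = 0
    · refine hav ?_
      rw [hcz, hc0, zero_smul, zero_add]
      exact hmem (by intro; simp) hz
    · refine hm ?_
      have e : m = c⁻¹ • (v - z) := by rw [hcz, add_sub_cancel_right, smul_smul, inv_mul_cancel₀ hc0, one_smul]
      rw [e]
      exact Submodule.smul_mem _ _ (sub_mem (Submodule.subset_span (by simp)) (hmem (by intro; simp; tauto) hz))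
  -- `(a, m) → (m', m)`
  have hma : m ∉ Submodule.span F₀ {y | y ∈ [a]} := fun hc => hm (hmem (by intro; simp; tauto) hc)
  have hm'am : m' ∉ Submodule.span F₀ {y | y ∈ [a, m]} := fun hc => hm' (hmem (by intro; simp; tauto) hc)
  have h2 : HasSh hR M t m m' := h1.symm.move hM (hmL' m (by simp)) (hmL' a (by simp)) fun hc => by
    rw [show {y | y ∈ [m, m']} = insert m' ({m} : Set V₀) by ext; simp [or_comm]] at hc
    obtain ⟨c, z, hz, hcz⟩ := Submodule.mem_span_insert.1 hc
    obtain ⟨d, rfl⟩ := Submodule.mem_span_singleton.1 hz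
    by_cases hc0 : c = 0
    · by_cases hd : d = 0
      · exact ha (by rw [hcz, hc0, hd]; simp)
      refine hma ?_
      have e : m = d⁻¹ • a := by rw [hcz, hc0, zero_smul, zero_add, smul_smul, inv_mul_cancel₀ hd, one_smul]
      rw [e]
      exact Submodule.smul_mem _ _ (Submodule.subset_span (by simp))
    · refine hm'am ?_
      have e : m' = c⁻¹ • (a - d • m) := by rw [hcz, add_sub_cancel_right, smul_smul, inv_mul_cancel₀ hc0, one_smul]
      rw [e]
      exact Submodule.smul_mem _ _ (sub_mem (Submodule.subset_span (by simp))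
        (Submodule.smul_mem _ _ (Submodule.subset_span (by simp))))
  -- `(m, m') → (m, u)`
  have h3 : HasSh hR M t m u := h2.move hM (hR.symm_zero (hmL u (by simp))) (hR.symm_zero (hmL' u (by simp)))
    fun hc => hm' (hmem (by intro; simp; tauto) hc)
  -- `(u, m) → (u, x)`
  exact h3.symm.move hM hux (hR.symm_zero (hmL x (by simp))) fun hc => hm (hmem (by intro; simp; tauto) hc)

/-- A nonrational short root element gives all transvections. -/
theorem top_of_hasSh {r : ℕ} (hr : r.Prime) (hcard : Fintype.card F = Nat.card F₀ ^ r) {μ : F} (hμ : μ ∉ F₀)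
    {a v : V₀} (h : HasSh hR M μ a v) (ha : a ≠ 0) (hav : v ∉ Submodule.span F₀ {y | y ∈ [a]}) : M = ⊤ := by
  have hA := hR.isAlt
  let T : Set F := {t | ∀ u x : V₀, B (u : V) (x : V) = 0 → x ∉ Submodule.span F₀ {y | y ∈ [u]} → HasSh hR M t u x}
  have hF₀ : ∀ c ∈ F₀, c ∈ T := fun c hc u x hux _ => ⟨hux, hM.sh_mem u.2 x.2 hc⟩
  let R : Subring F :=
    { carrier := T
      one_mem' := hF₀ 1 (one_mem _)
      zero_mem' := hF₀ 0 (zero_mem _)
      add_mem' := fun {s t} hs ht u x hux hx => ⟨hux, by
        rw [sh_add hA hux]; exact mul_mem (hs u x hux hx).2 (ht u x hux hx).2⟩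
      neg_mem' := fun {s} hs u x hux hx => ⟨hux, by rw [sh_neg hA hux]; exact inv_mem (hs u x hux hx).2⟩
      mul_mem' := fun {s t} hs ht u x hux hx => by
        by_cases hu0 : u = 0
        · subst hu0
          refine ⟨hux, ?_⟩
          have e : sh hA ((0 : V₀) : V) (x : V) (s * t) = 1 :=
            Subtype.ext (LinearEquiv.ext fun z => by rw [sh_apply hA hux]; simp)
          rw [e]; exact M.one_mem
        obtain ⟨w, hw, hwL⟩ := hR.exists_perp_outside [u, x] (Submodule.span F₀ {y | y ∈ [u, x]}) (by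
          have := finrank_span_le hM [u, x]; simp at this ⊢; omega)
        have hwu : w ∉ Submodule.span F₀ {y | y ∈ [u]} := fun hc => hw (Submodule.span_mono (by intro; simp; tauto) hc)
        obtain ⟨v', hv', hL⟩ := exists_partner_avoid hM [u, x] (by simp) hw
        refine sh_commutator (hs u w (hwL u (by simp)) hwu) (ht v' x (hR.symm_zero (hL x (by simp))) fun hc => ?_)
          (hL u (by simp)) hux (hR.symm_zero (hwL x (by simp))) hv'
        -- `x` is not a multiple of `v'`
        rw [show {y | y ∈ [v']} = ({v'} : Set V₀) by ext; simp] at hc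
        obtain ⟨c, rfl⟩ := Submodule.mem_span_singleton.1 hc
        have h0 : B (w : V) ((c • v' : V₀) : V) = 0 := hR.symm_zero (hwL _ (by simp))
        rw [SetLike.val_smul, coe_smul_eq, map_smul, hv', smul_eq_mul, mul_one, ZeroMemClass.coe_eq_zero] at h0
        exact hx (by rw [h0, zero_smul]; exact Submodule.zero_mem _) }
  have hall : ∀ t, t ∈ R := eq_top_of_prime_degree hr hcard R hF₀
    (show μ ∈ R from fun u x hux hx => h.all hM hdim hav ha hux hx) hμ
  have hshort : ∀ (u x : V₀), B (u : V) (x : V) = 0 → x ∉ Submodule.span F₀ {y | y ∈ [u]} →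
      ∀ t, sh hA (u : V) (x : V) t ∈ M := fun u x hux hx t => (hall t u x hux hx).2
  -- long root elements
  have hlong : ∀ (u : V₀) (t : F), tv hA (u : V) t ∈ M := by
    intro u t
    by_cases hu : u = 0
    · subst hu
      have e : tv hA ((0 : V₀) : V) t = 1 := Subtype.ext (LinearEquiv.ext fun z => by simp)
      rw [e]; exact M.one_mem
    obtain ⟨w, hw, hwL⟩ := hR.exists_perp_outside [u] (Submodule.span F₀ {y | y ∈ [u]}) (by
      have := finrank_span_le hM [u]; simp at this ⊢; omega)
    obtain ⟨v', hv', hL⟩ := exists_partner_avoid hM [u] (by simp) hw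
    have huw : B (u : V) (w : V) = 0 := hwL u (by simp)
    have hsq : ∀ s : F, tv hA (u : V) (s * s) ∈ M := by
      intro s
      have hσ := hshort u w huw hw s
      have e2 : (sh hA (u : V) (w : V) s).1 (v' : V) = (v' : V) + (-s) • (u : V) := by
        rw [sh_apply hA huw, hR.symm_zero (hL u (by simp)), mul_zero, zero_smul, add_zero, hR.swap (v' : V) w, hv',
          mul_neg, mul_one]
      have h3 := mul_mem (mul_mem hσ (hM _ v'.2 1 (one_mem _))) (inv_mem hσ)
      rw [conj_tv, e2, tv_add hA (hR.symm_zero (hL u (by simp)))] at h3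
      have h4 : sh hA (v' : V) (u : V) (1 * -s) ∈ M := hshort v' u (hR.symm_zero (hL u (by simp))) (fun hc => by
        rw [show {y | y ∈ [v']} = ({v'} : Set V₀) by ext; simp] at hc
        obtain ⟨c, rfl⟩ := Submodule.mem_span_singleton.1 hc
        have h0 := hR.symm_zero huw
        rw [SetLike.val_smul, coe_smul_eq, map_smul, hv', smul_eq_mul, mul_one, ZeroMemClass.coe_eq_zero] at h0
        exact hu (by rw [h0, zero_smul])) _
      have := (Subgroup.mul_mem_cancel_left M (mul_mem (hM _ v'.2 1 (one_mem _)) h4)).1 h3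
      rwa [one_mul, neg_mul_neg] at this
    by_cases h2 : (2 : F) = 0
    · obtain ⟨s, hs⟩ := CfsgLib.Classical.SubfieldMax.exists_sq h2 t
      rw [← hs]; exact hsq s
    · have e : t = ((t + 1) / 2) * ((t + 1) / 2) + -(((t - 1) / 2) * ((t - 1) / 2)) := by
        field_simp; ring
      rw [e, ← tv_mul]
      refine mul_mem (hsq _) ?_
      have := inv_mem (hsq ((t - 1) / 2))
      rwa [inv_eq_of_mul_eq_one_right (b := tv hA (u : V) (-(((t - 1) / 2) * ((t - 1) / 2))))
        (by rw [tv_mul, add_neg_cancel, tv_zero])] at this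
  -- every vector is an axis
  have hclos : ∀ c : F, ∀ v : V, tv hA v c ∈ M → ∀ (u : V₀) (l : F), tv hA (v + l • (u : V)) c ∈ M := by
    intro c v hv u l
    by_cases hu : u = 0
    · subst hu; simpa using hv
    by_cases h1 : B v (u : V) = 0
    swap
    · have hσ := hlong u (l / B v (u : V))
      have := mul_mem (mul_mem hσ hv) (inv_mem hσ)
      rwa [conj_tv, tv_apply, div_mul_cancel₀ _ h1] at this
    by_cases h2 : ∃ x : V₀, B (u : V) (x : V) = 0 ∧ B v (x : V) ≠ 0
    · obtain ⟨x, hux, hvx⟩ := h2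
      have hx : x ∉ Submodule.span F₀ {y | y ∈ [u]} := fun hc => hvx (by
        rw [show {y | y ∈ [u]} = ({u} : Set V₀) by ext; simp] at hc
        obtain ⟨k, rfl⟩ := Submodule.mem_span_singleton.1 hc
        rw [SetLike.val_smul, coe_smul_eq, map_smul, h1, smul_zero])
      have hσ := hshort u x hux hx (l / B v (x : V))
      have := mul_mem (mul_mem hσ hv) (inv_mem hσ)
      rwa [conj_tv, sh_apply hA hux, h1, mul_zero, zero_smul, add_zero, div_mul_cancel₀ _ hvx] at this
    push Not at h2
    obtain ⟨u', hu', -⟩ := exists_partner_avoid hM (v := u) [] (by simp) (by simpa using hu)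
    have hv' : v = (-(B v (u' : V))) • -(u : V) := by
      refine sub_eq_zero.1 (hR.sep fun z hz => ?_)
      have h3 := h2 (⟨z, hz⟩ - (⟨B (u : V) z, hR.form _ u.2 _ hz⟩ : F₀) • u') (by
        rw [Submodule.coe_sub, SetLike.val_smul, coe_smul_eq, map_sub, map_smul, hu', smul_eq_mul, mul_one, sub_self])
      rw [Submodule.coe_sub, SetLike.val_smul, coe_smul_eq, map_sub, map_smul, sub_eq_zero] at h3
      rw [map_sub, map_smul, map_neg, hR.swap z v, hR.swap z (u : V), h3]
      simp [mul_comm]
    rw [hv', smul_neg, ← neg_smul, ← add_smul, tv_smul]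
    exact hlong u _
  refine eq_top_of_isAxis hA hR.nondeg fun v c => ?_
  have hspan : ∀ x ∈ Submodule.span F (V₀ : Set V), ∀ (l : F) (w : V), tv hA w c ∈ M →
      tv hA (w + l • x) c ∈ M := by
    intro x hx
    induction hx using Submodule.span_induction with
    | mem u hu => exact fun l w hw => hclos c w hw ⟨u, hu⟩ l
    | zero => intro l w hw; simpa using hw
    | add a b _ _ iha ihb => intro l w hw; rw [smul_add, ← add_assoc]; exact ihb l _ (iha l w hw)
    | smul k a _ iha => intro l w hw; rw [smul_smul]; exact iha _ w hw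
  have h0 : tv hA (0 : V) c ∈ M := by
    have := hlong 0 c; simpa using this
  simpa using hspan v (hR.spans ▸ Submodule.mem_top) 1 0 h0

end CfsgLib.Classical.SubfieldMax
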